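import Cfsg.Agent.Mrg.ParSys.Par
import Cfsg.Agent.FixBN.OfRGD
import Cfsg.Agent.Nodes.CommonNorm
import Cfsg.Agent.Nodes.RGDLib
import Cfsg.Agent.Lib.FrattiniPGroup
import Cfsg.Agent.Mrg.ParSys.FreeTrans
import Cfsg.Agent.Mrg.ParSys.Core
import Cfsg.Agent.Nodes.NormalForm
import Cfsg.Agent.ChevalleyStructure.CoxeterGeom
import Cfsg.Agent.FixBN.NodeRGD
import Cfsg.Agent.MinSimple.SelfCentFour
set_option linter.all false

section


/-!
# THEOREM PAR: the facts on the groups of Lie type of rank two, from root group data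

`fOne_of_rgd`: the fact (F1), if the root groups of the non-simple positive roots lie in the commutator subgroup of `U`.
-/

set_option autoImplicit false
set_option linter.unusedSectionVars false
set_option linter.style.haveILetI false

namespace Cfsg.Agent.ParSys.Fam

open CoxeterSystem Cfsg.Agent.ChevalleyStructure.CoxeterGeom Cfsg.Agent.Tits.Roots Cfsg.Agent.Tits.Core
  Cfsg.Agent.Tits.RootComb Cfsg.Agent.Nodes.Comb Cfsg.Agent.Nodes.Reps Cfsg.Agent.Nodes.BNOf Cfsg.Agent.Nodes.BNOf.RGD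
  Cfsg.Agent.Schreier.BNSch Cfsg.Agent.FixBN Cfsg.Agent.Nodes.FreeTorus Cfsg.Agent.Nodes.CommonNorm
  Cfsg.Agent.Nodes.Bruhat Cfsg.Agent.Nodes.RGDLib
open scoped commutatorElement

/-- In a finite `p`-group the commutator subgroup consists of non-generators. -/
theorem le_of_sup_commutator {Y : Type*} [Group Y] [Finite Y] {p : ℕ} [Fact p.Prime] {U T : Subgroup Y}
    (hU : IsPGroup p U) (hT : T ≤ U) (h : U ≤ T ⊔ ⁅U, U⁆) : U ≤ T := by
  have h1 : T.subgroupOf U ⊔ frattini U = ⊤ := by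
    rw [eq_top_iff]
    have h2 : T.subgroupOf U ⊔ commutator U = ⊤ := by
      apply Subgroup.map_injective U.subtype_injective
      rw [Subgroup.map_sup, Subgroup.map_subtype_commutator, Subgroup.subgroupOf_map_subtype,
        ← MonoidHom.range_eq_map, Subgroup.range_subtype, inf_eq_left.2 hT]
      exact le_antisymm (sup_le hT (Subgroup.commutator_le_self U)) h
    rw [← h2]
    exact sup_le_sup_left (Lib.FrattiniPGroup.commutator_le_frattini hU) _
  have h2 := frattini_nongenerating h1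
  rwa [Subgroup.subgroupOf_eq_top] at h2

variable {I W Y : Type*} [Fintype I] [DecidableEq I] [Group W] [Group Y] {M : CoxeterMatrix I}
variable {cs : CoxeterSystem M W} {A : I → I → ℤ} {h : IsCartan M A} {p : ℕ} {T : Subgroup Y} {n : I → Y}
  {X : (I → ℤ) → Subgroup Y} [Finite W]

/-- The positive roots other than `α_i` and `α_j`. -/
def PosNN (cs : CoxeterSystem M W) (h : IsCartan M A) (i j : I) : Set (I → ℤ) :=
  {x | IsRoot cs h x ∧ 0 ≤ x ∧ x ≠ sr i ∧ x ≠ sr j}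

/-- `X_{-i} ∩ B = 1` -/
theorem neg_inf_B (R : RGD cs h p T n X) (i : I) : ∀ x ∈ X (-sr i), x ∈ B cs h T X → x = 1 := by
  intro x hx hxB
  by_contra hne
  obtain ⟨a, ha, t, ht, b, hb, e⟩ := R.rk1 i x hx hne
  have h1 : n i = (a * t)⁻¹ * x * b⁻¹ := by rw [e]; group
  have h2 : n i ∈ B cs h T X := by
    rw [h1]
    exact mul_mem (mul_mem (inv_mem (mul_mem (X_le_B (isRoot_sr cs h i) (sr_nonneg i) ha) (T_le_B ht))) hxB)
      (inv_mem (X_le_B (isRoot_sr cs h i) (sr_nonneg i) hb))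
  have h3 := R.eq_one_of_mem_B (rp_simple cs R.nsys i) h2
  have h4 := rep_simple_sr cs h i
  rw [h3, map_one, Module.End.one_apply] at h4
  have h5 := congrFun h4 i
  rw [Pi.neg_apply, sr_self] at h5
  exact absurd h5 (by decide)

/-- `X_i ∩ V_i = 1` -/
theorem X_inf_V (R : RGD cs h p T n X) (i : I) : ∀ x ∈ X (sr i), x ∈ Sup X (PosNe cs h i) → x = 1 := by
  intro x hx hxV
  have h1 : (n i)⁻¹ * x * n i ∈ X (-sr i) := by
    have := R.conj_mem' (rp_simple cs R.nsys i) (isRoot_sr cs h i) hx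
    rwa [inv_simple, rep_simple_sr] at this
  have h2 : (n i)⁻¹ * x * n i ∈ Sup X (PosNe cs h i) := by
    rw [← R.cj_n_V i] at hxV
    exact mem_cj.1 hxV
  have h3 := neg_inf_B R i _ h1 (U_le_B ((Sup_mono fun z hz => ⟨hz.1, hz.2.1⟩ :
    Sup X (PosNe cs h i) ≤ Sup X (Pos cs h)) h2))
  have h4 : x = n i * ((n i)⁻¹ * x * n i) * (n i)⁻¹ := by group
  rw [h4, h3, mul_one, mul_inv_cancel]

/-- `X_j` normalises the product of the other root groups of `V_i`. -/
theorem X_le_normalizer_NN (R : RGD cs h p T n X) (i j : I) :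
    X (sr j) ≤ Subgroup.normalizer (Sup X (PosNN cs h i j) : Set Y) := by
  refine R.le_normalizer (isRoot_sr cs h j) ?_
  rintro y ⟨hy, hy0, hyi, hyj⟩
  refine ⟨hy, Or.inr ⟨?_, ?_⟩⟩
  · intro he
    have h1 := (sr_nonneg j : (0 : I → ℤ) ≤ sr j)
    rw [he] at h1
    exact hy.neg.not_pos_neg h1 (neg_nonpos.2 hy0)
  · intro z hz
    exact ⟨hz.1, nonneg_of_btwn (sr_nonneg j) hy0 hz, ne_sr_of_btwn (sr_nonneg j) hy hy0 hyi hz,
      ne_sr_of_btwn (sr_nonneg j) hy hy0 hyj hz⟩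

/-- `V_i ∩ V_j` is generated by the root groups of the other positive roots. -/
theorem V_inf_V (R : RGD cs h p T n X) (i j : I) :
    ∀ e ∈ Sup X (PosNe cs h i), e ∈ Sup X (PosNe cs h j) → e ∈ Sup X (PosNN cs h i j) := by
  intro e hi hj
  have hV : Sup X (PosNe cs h i) ≤ X (sr j) ⊔ Sup X (PosNN cs h i j) := by
    refine Sup_le fun z hz => ?_
    by_cases hz0 : z = sr j
    · subst hz0; exact le_sup_left
    · exact le_trans (le_Sup (S := PosNN cs h i j) ⟨hz.1, hz.2.1, hz.2.2, hz0⟩) le_sup_right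
  have h1 : e ∈ ((X (sr j) ⊔ Sup X (PosNN cs h i j) : Subgroup Y) : Set Y) := hV hi
  rw [Subgroup.coe_mul_of_left_le_normalizer_right _ _ (X_le_normalizer_NN R i j), Set.mem_mul] at h1
  obtain ⟨x, hx, w, hw, rfl⟩ := h1
  have hle : Sup X (PosNN cs h i j) ≤ Sup X (PosNe cs h j) := Sup_mono fun z hz => ⟨hz.1, hz.2.1, hz.2.2.2⟩
  have hwV : w ∈ Sup X (PosNe cs h j) := hle hw
  have hxV : x ∈ Sup X (PosNe cs h j) := by
    have := mul_mem hj (inv_mem hwV)
    rwa [mul_inv_cancel_right] at this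
  rw [X_inf_V R j x hx hxV, one_mul]
  exact hw

/-- **(F1)** from root group data: the non-simple positive root groups lie in `U'`. -/
theorem fOne_of_rgd [Finite Y] [Fact p.Prime] (R : RGD cs h p T n X) (hgen : B cs h T X ⊔ NN cs R.nsys = ⊤) {i j : I}
    (hX : ∀ z, IsRoot cs h z → 0 ≤ z → z ≠ sr i → z ≠ sr j →
      X z ≤ ⁅Sup X (Pos cs h), Sup X (Pos cs h)⁆) :
    FOne (R.bnPair hgen) (Sup X (Pos cs h)) (n i) (n j) := by
  intro K hK hcov
  refine le_of_sup_commutator R.isPGroup_Upos hK ?_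
  intro e he
  obtain ⟨x, hx, h1, h2⟩ := hcov e he
  have hxe : x⁻¹ * e ∈ Sup X (Pos cs h) := mul_mem (inv_mem (hK hx)) he
  have h3 := (OfRGD.node R hgen i).stab _ hxe h1
  have h4 := (OfRGD.node R hgen j).stab _ hxe h2
  have h5 := V_inf_V R i j _ h3 h4
  have h6 : Sup X (PosNN cs h i j) ≤ ⁅Sup X (Pos cs h), Sup X (Pos cs h)⁆ :=
    Sup_le fun z hz => hX z hz.1 hz.2.1 hz.2.2.1 hz.2.2.2
  have : e = x * (x⁻¹ * e) := by group
  rw [this]
  exact mul_mem (Subgroup.mem_sup_left hx) (Subgroup.mem_sup_right (h6 h5))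

/-! ### The torus is generated by the rank one tori -/

theorem acts_mul (R : RGD cs h p T n X) {t : Y} (ht : t ∈ T) (i : I) : Nodes.FreeTorus.Acts cs h X (cs.simple i) (t * n i) := by
  have h1 : Nodes.FreeTorus.Acts cs h X 1 t := mem_HH.1 (T_le_HH R ht)
  have h2 : Nodes.FreeTorus.Acts cs h X (cs.simple i) (n i) := acts_of_rp R (rp_simple cs R.nsys i)
  have := h1.mul h2
  rwa [one_mul] at this

/-- An element of `⟨X_i, X_{-i}⟩ ∩ T n_i`. -/
theorem exists_mem_LL (R : RGD cs h p T n X) (i : I) :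
    ∃ m ∈ LL X (sr i), Nodes.FreeTorus.Acts cs h X (cs.simple i) m ∧ ∃ t ∈ T, m = t * n i := by
  have hne := X_ne_bot R (isRoot_sr cs h i).neg
  obtain ⟨u, hu, hu1⟩ := ((X (-sr i)).bot_or_exists_ne_one).resolve_left hne
  obtain ⟨a, ha, t, ht, b, hb, e⟩ := R.rk1 i u hu hu1
  refine ⟨t * n i, ?_, acts_mul R ht i, t, ht, rfl⟩
  have h1 : t * n i = a⁻¹ * u * b⁻¹ := by rw [e]; group
  have hL : X (sr i) ≤ LL X (sr i) := le_sup_left
  have hL' : X (-sr i) ≤ LL X (sr i) := le_sup_right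
  rw [h1]
  exact mul_mem (mul_mem (inv_mem (hL ha)) (hL' hu)) (inv_mem (hL hb))

/-- The torus of all root groups is generated by the rank one tori of the simple roots. -/
theorem TA_le {n' : I → Y} (hL : ∀ i, n' i ∈ LL X (sr i)) (hA : ∀ i, Nodes.FreeTorus.Acts cs h X (cs.simple i) (n' i)) :
    TA cs h X ≤ ⨆ k, TT cs h X (sr k) := by
  have hk : ∀ k, TT cs h X (sr k) ≤ ⨆ k, TT cs h X (sr k) := fun k => le_iSup (fun k => TT cs h X (sr k)) k
  -- the `n' l` normalise the join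
  have key : ∀ l, ∀ g, (g = n' l ∨ g = (n' l)⁻¹) → cj g (⨆ k, TT cs h X (sr k)) ≤ ⨆ k, TT cs h X (sr k) := by
    intro l g hg
    have hgL : g ∈ LL X (sr l) := by
      rcases hg with rfl | rfl
      · exact hL l
      · exact inv_mem (hL l)
    have hgA : Nodes.FreeTorus.Acts cs h X (cs.simple l) g := by
      rcases hg with rfl | rfl
      · exact hA l
      · have := (hA l).inv
        rwa [cs.inv_simple] at this
    rw [cj_iSup]
    refine iSup_le fun k => ?_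
    intro t ht
    rw [mem_cj] at ht
    -- `t = [g, t'] t'`
    have ht' : g⁻¹ * t * g ∈ HH cs h X := (Subgroup.mem_inf.1 ht).2
    have htH : t ∈ HH cs h X := by
      have h1 := hgA.cj_HH
      rw [← h1, mem_cj]
      exact ht'
    have h2 : t * (g⁻¹ * t * g)⁻¹ ∈ TT cs h X (sr l) := by
      refine Subgroup.mem_inf.2 ⟨?_, mul_mem htH (inv_mem ht')⟩
      have h3 : t * g⁻¹ * t⁻¹ ∈ LL X (sr l) := by
        have h4 := (mem_HH.1 htH).cj_LL (isRoot_sr cs h l)
        rw [map_one, Module.End.one_apply] at h4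
        rw [← h4]
        exact conj_mem_cj.2 (inv_mem hgL)
      have e : t * (g⁻¹ * t * g)⁻¹ = (t * g⁻¹ * t⁻¹) * g := by group
      rw [e]
      exact mul_mem h3 hgL
    have e : t = t * (g⁻¹ * t * g)⁻¹ * (g⁻¹ * t * g) := by group
    rw [e]
    exact mul_mem (hk l h2) (hk k ht)
  have hN : Subgroup.closure (Set.range n') ≤
      Subgroup.normalizer ((⨆ k, TT cs h X (sr k) : Subgroup Y) : Set Y) := by
    rw [Subgroup.closure_le]
    rintro _ ⟨l, rfl⟩
    rw [SetLike.mem_coe, mem_normalizer_iff_cj]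
    apply le_antisymm (key l _ (Or.inl rfl))
    have h1 := cj_mono (n' l) (key l _ (Or.inr rfl))
    rwa [cj_cj_inv] at h1
  refine iSup_le ?_
  rintro ⟨_, w, k, rfl⟩
  obtain ⟨g, hg, hgA⟩ := exists_acts hA w
  show TT cs h X (rep cs h w (sr k)) ≤ _
  rw [← hgA.cj_TT (isRoot_sr cs h k)]
  have h1 := mem_normalizer_iff_cj.1 (hN hg)
  rw [← h1]
  exact cj_mono g (hk k)

/-- **The torus is generated by the rank one tori.** -/
theorem B_le [Finite Y] (R : RGD cs h p T n X) (hG : G1 cs h X = ⊤) :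
    B cs h T X ≤ (⨆ k, TT cs h X (sr k)) ⊔ Sup X (Pos cs h) := by
  choose n' hL hA t ht hn' using exists_mem_LL R
  have hGG : GG cs h T X = ⊤ := by
    rw [eq_top_iff, ← hG]
    exact le_sup_right
  have hTH : HH cs h X = T := by
    have := HH_inf_GG R
    rwa [hGG, inf_top_eq] at this
  have hTAT : TA cs h X ≤ T := by rw [← hTH]; exact TA_le_HH
  have R' : RGD cs h p (TA cs h X) n' X := by
    refine rgd_of_family hL hA R.comm ?_ R.pgrp R.notp ?_
    · intro i u hu hu1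
      obtain ⟨a, ha, s, hs, b, hb, e⟩ := R.rk1 i u hu hu1
      refine ⟨a, ha, s * n i, ?_, b, hb, by rw [e]; group, acts_mul R hs i⟩
      have h1 : s * n i = a⁻¹ * u * b⁻¹ := by rw [e]; group
      have hL1 : X (sr i) ≤ LL X (sr i) := le_sup_left
      have hL2 : X (-sr i) ≤ LL X (sr i) := le_sup_right
      rw [h1]
      exact mul_mem (mul_mem (inv_mem (hL1 ha)) (hL2 hu)) (inv_mem (hL1 hb))
    · intro i
      refine Nat.Coprime.coprime_dvd_left (Subgroup.card_dvd_of_le ?_) R.tcop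
      rw [← hTH]
      exact inf_le_right
  have hgen' := rgd_gen_of_G1 R' hG
  have hBB : (R'.bnPair hgen').B ≤ B cs h T X := sup_le (hTAT.trans T_le_B) U_le_B
  have h1 := Cfsg.Agent.LieExceptional.BNPairCore.eq_parabolic hBB
  have h2 : (R'.bnPair hgen').S ∩ (B cs h T X : Set Y) = ∅ := by
    rw [Set.eq_empty_iff_forall_notMem]
    rintro _ ⟨⟨k, rfl⟩, hk⟩
    have hk : n' k ∈ B cs h T X := hk
    rw [hn' k] at hk
    have h3 : n k ∈ B cs h T X := by
      have := mul_mem (inv_mem (T_le_B (ht k))) hk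
      rwa [inv_mul_cancel_left] at this
    have h4 := R.eq_one_of_mem_B (rp_simple cs R.nsys k) h3
    have h5 := rep_simple_sr cs h k
    rw [h4, map_one, Module.End.one_apply] at h5
    have h6 := congrFun h5 k
    rw [Pi.neg_apply, sr_self] at h6
    exact absurd h6 (by decide)
  rw [h2, parabolic_empty] at h1
  rw [h1]
  exact sup_le ((TA_le hL hA).trans le_sup_left) le_sup_right

/-! ### The facts `KPair` and `KSep` -/

theorem conj_mem_U (R : RGD cs h p T n X) {t u : Y} (ht : t ∈ T) (hu : u ∈ Sup X (Pos cs h)) :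
    t * u * t⁻¹ ∈ Sup X (Pos cs h) := (Subgroup.mem_normalizer_iff.1 (R.T_le_normalizer_U ht) u).1 hu

theorem conj_mem_V (R : RGD cs h p T n X) (i : I) {t v : Y} (ht : t ∈ T) (hv : v ∈ Sup X (PosNe cs h i)) :
    t * v * t⁻¹ ∈ Sup X (PosNe cs h i) :=
  (Subgroup.mem_normalizer_iff.1 (R.T_le_normalizer (S := PosNe cs h i) (fun _ hx => hx.1) ht) v).1 hv

theorem exists_V_mul (R : RGD cs h p T n X) (i : I) {u : Y} (hu : u ∈ Sup X (Pos cs h)) :
    ∃ v ∈ Sup X (PosNe cs h i), ∃ x ∈ X (sr i), u = v * x := by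
  rw [R.Upos_eq i, sup_comm] at hu
  have h1 : u ∈ ((Sup X (PosNe cs h i) ⊔ X (sr i) : Subgroup Y) : Set Y) := hu
  rw [Subgroup.coe_mul_of_right_le_normalizer_left _ _ (R.X_le_normalizer_V i), Set.mem_mul] at h1
  obtain ⟨v, hv, x, hx, e⟩ := h1
  exact ⟨v, hv, x, hx, e.symm⟩

theorem V_conj_mem_B (R : RGD cs h p T n X) (i : I) {v : Y} (hv : v ∈ Sup X (PosNe cs h i)) :
    (n i)⁻¹ * v * n i ∈ B cs h T X := by
  rw [← R.cj_n_V i] at hv
  have h1 : Sup X (PosNe cs h i) ≤ Sup X (Pos cs h) := Sup_mono fun z hz => ⟨hz.1, hz.2.1⟩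
  exact U_le_B (h1 (mem_cj.1 hv))

/-- a torus element which is fixed-point-free on `X_i` -/
theorem fpf_of_rgd [Finite Y] (R : RGD cs h p T n X) (hgen : B cs h T X ⊔ NN cs R.nsys = ⊤) (i : I) {a : Y}
    (ha : a ∈ T) (hfix : ∀ x ∈ X (sr i), a * x * a⁻¹ = x → x = 1) :
    ∀ u ∈ Sup X (Pos cs h), (n i)⁻¹ * (a * u * a⁻¹ * u⁻¹) * n i ∈ (R.bnPair hgen).B →
      (n i)⁻¹ * u * n i ∈ (R.bnPair hgen).B := by
  intro u hu hB
  have hw : a * u * a⁻¹ * u⁻¹ ∈ Sup X (Pos cs h) := mul_mem (conj_mem_U R ha hu) (inv_mem hu)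
  have hwV := (OfRGD.node R hgen i).stab _ hw hB
  obtain ⟨v, hv, x, hx, rfl⟩ := exists_V_mul R i hu
  have h1 : a * x * a⁻¹ * x⁻¹ ∈ Sup X (PosNe cs h i) := by
    have e : a * x * a⁻¹ * x⁻¹ = (a * v * a⁻¹)⁻¹ * (a * (v * x) * a⁻¹ * (v * x)⁻¹) * v := by group
    rw [e]
    exact mul_mem (mul_mem (inv_mem (conj_mem_V R i ha hv)) hwV) hv
  have h2 : a * x * a⁻¹ ∈ X (sr i) := by
    have := R.tor _ (isRoot_sr cs h i) a ha
    rw [← this]
    exact conj_mem_cj.2 hx
  have h3 := X_inf_V R i _ (mul_mem h2 (inv_mem hx)) h1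
  have h4 := hfix x hx (mul_inv_eq_one.1 h3)
  rw [h4, mul_one]
  exact V_conj_mem_B R i hv

theorem T_le_BN (R : RGD cs h p T n X) (hgen : B cs h T X ⊔ NN cs R.nsys = ⊤) :
    T ≤ (R.bnPair hgen).B ⊓ (R.bnPair hgen).N := by
  show T ≤ B cs h T X ⊓ NN cs R.nsys
  rw [R.B_inf_NN]

theorem kFpf_of_rgd [Finite Y] (R : RGD cs h p T n X) (hgen : B cs h T X ⊔ NN cs R.nsys = ⊤) (i : I)
    (hf : ∃ a ∈ T, ∀ x ∈ X (sr i), a * x * a⁻¹ = x → x = 1) :
    FpfE (R.bnPair hgen) (Sup X (Pos cs h)) (n i) := by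
  obtain ⟨a, ha, hfix⟩ := hf
  exact ⟨a, T_le_BN R hgen ha, fpf_of_rgd R hgen i ha hfix⟩

/-- **(T2)** from a torus element which centralises `X_i` and is fixed-point-free on `X_j`. -/
theorem kSep_of_rgd [Finite Y] (R : RGD cs h p T n X) (hgen : B cs h T X ⊔ NN cs R.nsys = ⊤) (i j : I)
    (hf : ∃ a ∈ T, (∀ x ∈ X (sr i), a * x * a⁻¹ = x) ∧ ∀ x ∈ X (sr j), a * x * a⁻¹ = x → x = 1) :
    SepE (R.bnPair hgen) (Sup X (Pos cs h)) (n i) (n j) := by
  obtain ⟨a, ha, hc, hfix⟩ := hf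
  refine ⟨a, T_le_BN R hgen ha, ?_, fpf_of_rgd R hgen j ha hfix⟩
  intro u hu
  obtain ⟨v, hv, x, hx, rfl⟩ := exists_V_mul R i hu
  have e : a * (v * x) * a⁻¹ * (v * x)⁻¹ = (a * v * a⁻¹) * (a * x * a⁻¹) * x⁻¹ * v⁻¹ := by group
  have e2 : (a * v * a⁻¹) * x * x⁻¹ * v⁻¹ = a * v * a⁻¹ * v⁻¹ := by group
  rw [e, hc x hx, e2]
  exact V_conj_mem_B R i (mul_mem (conj_mem_V R i ha hv) (inv_mem hv))

/-! ### The torus of the rank one groups -/

theorem LL_le_Rone (R : RGD cs h p T n X) (k : I) : LL X (sr k) ≤ Rone (Sup X (Pos cs h)) (n k) := by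
  refine sup_le ?_ ?_
  · exact le_trans (le_Sup (S := Pos cs h) ⟨isRoot_sr cs h k, sr_nonneg k⟩) le_sup_left
  · have h1 := R.conj k _ (isRoot_sr cs h k)
    rw [rep_simple_sr] at h1
    rw [← h1]
    exact le_trans (cj_mono (n k) (le_Sup (S := Pos cs h) ⟨isRoot_sr cs h k, sr_nonneg k⟩)) le_sup_right

/-- **The Bruhat decomposition of the rank one group** `⟨U, U^{n_i}⟩`. -/
theorem rone_le (R : RGD cs h p T n X) (i : I) {H : Subgroup Y} (hH : H ≤ T) {m : Y}
    (hm : ∃ t ∈ T, m = t * n i)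
    (r1 : ∀ x ∈ X (-sr i), x ≠ 1 → ∃ a ∈ X (sr i), ∃ t ∈ H, ∃ b ∈ X (sr i), x = a * t * m * b)
    (r2 : m * m ∈ H) (r3 : ∀ t ∈ H, m * t * m⁻¹ ∈ H) :
    ∀ x ∈ Rone (Sup X (Pos cs h)) (n i), (∃ u ∈ Sup X (Pos cs h), ∃ t ∈ H, x = u * t) ∨
      ∃ u ∈ Sup X (Pos cs h), ∃ t ∈ H, ∃ u' ∈ Sup X (Pos cs h), x = u * t * m * u' := by
  obtain ⟨t0, ht0, hmn⟩ := hm
  have hXU : X (sr i) ≤ Sup X (Pos cs h) := le_Sup (S := Pos cs h) ⟨isRoot_sr cs h i, sr_nonneg i⟩
  have hVU : Sup X (PosNe cs h i) ≤ Sup X (Pos cs h) := Sup_mono fun z hz => ⟨hz.1, hz.2.1⟩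
  have hnV : ∀ v ∈ Sup X (PosNe cs h i), n i * v * (n i)⁻¹ ∈ Sup X (PosNe cs h i) := fun v hv => by
    rw [← R.cj_n_V i]
    exact conj_mem_cj.2 hv
  have hmV : ∀ v ∈ Sup X (PosNe cs h i), m * v * m⁻¹ ∈ Sup X (PosNe cs h i) := fun v hv => by
    have e : m * v * m⁻¹ = t0 * (n i * v * (n i)⁻¹) * t0⁻¹ := by rw [hmn]; group
    rw [e]
    exact conj_mem_V R i ht0 (hnV v hv)
  have hnX : ∀ x ∈ X (sr i), n i * x * (n i)⁻¹ ∈ X (-sr i) := fun x hx => by
    have := R.conj_mem (rp_simple cs R.nsys i) (isRoot_sr cs h i) hx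
    rwa [rep_simple_sr] at this
  have hmX : ∀ x ∈ X (sr i), m * x * m⁻¹ ∈ X (-sr i) := fun x hx => by
    have e : m * x * m⁻¹ = t0 * (n i * x * (n i)⁻¹) * t0⁻¹ := by rw [hmn]; group
    rw [e, ← R.tor _ (isRoot_sr cs h i).neg t0 ht0]
    exact conj_mem_cj.2 (hnX x hx)
  have hTX : ∀ t ∈ T, ∀ x ∈ X (sr i), t⁻¹ * x * t ∈ X (sr i) := fun t ht x hx => by
    have := R.tor _ (isRoot_sr cs h i) t⁻¹ (inv_mem ht)
    rw [← this]
    have h1 := (conj_mem_cj (g := t⁻¹)).2 hx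
    rwa [inv_inv] at h1
  -- the set is stable under left multiplication by `U`
  have stU : ∀ y ∈ Sup X (Pos cs h), ∀ x, ((∃ u ∈ Sup X (Pos cs h), ∃ t ∈ H, x = u * t) ∨
      ∃ u ∈ Sup X (Pos cs h), ∃ t ∈ H, ∃ u' ∈ Sup X (Pos cs h), x = u * t * m * u') →
      ((∃ u ∈ Sup X (Pos cs h), ∃ t ∈ H, y * x = u * t) ∨
      ∃ u ∈ Sup X (Pos cs h), ∃ t ∈ H, ∃ u' ∈ Sup X (Pos cs h), y * x = u * t * m * u') := by
    rintro y hy x (⟨u, hu, t, ht, rfl⟩ | ⟨u, hu, t, ht, u', hu', rfl⟩)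
    · exact Or.inl ⟨y * u, mul_mem hy hu, t, ht, by group⟩
    · exact Or.inr ⟨y * u, mul_mem hy hu, t, ht, u', hu', by group⟩
  -- and by `X_{-i}`
  have stX : ∀ y ∈ X (-sr i), ∀ x, ((∃ u ∈ Sup X (Pos cs h), ∃ t ∈ H, x = u * t) ∨
      ∃ u ∈ Sup X (Pos cs h), ∃ t ∈ H, ∃ u' ∈ Sup X (Pos cs h), x = u * t * m * u') →
      ((∃ u ∈ Sup X (Pos cs h), ∃ t ∈ H, y * x = u * t) ∨
      ∃ u ∈ Sup X (Pos cs h), ∃ t ∈ H, ∃ u' ∈ Sup X (Pos cs h), y * x = u * t * m * u') := by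
    intro y hy x hx
    by_cases hy1 : y = 1
    · rw [hy1, one_mul]
      exact hx
    obtain ⟨a, ha, t, ht, b, hb, rfl⟩ := r1 y hy hy1
    rcases hx with (⟨u, hu, s, hs, rfl⟩ | ⟨u, hu, s, hs, u', hu', rfl⟩)
    · obtain ⟨v, hv, c, hc, e⟩ := exists_V_mul R i (mul_mem (hXU hb) hu)
      refine Or.inr ⟨a * (t * (m * v * m⁻¹) * t⁻¹), mul_mem (hXU ha) (conj_mem_U R (hH ht) (hVU (hmV v hv))),
        t * (m * s * m⁻¹), mul_mem ht (r3 s hs), s⁻¹ * c * s, hXU (hTX s (hH hs) c hc), ?_⟩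
      have e1 : a * t * m * b * (u * s) = a * t * m * (b * u) * s := by group
      rw [e1, e]
      group
    · obtain ⟨v, hv, c, hc, e⟩ := exists_V_mul R i (mul_mem (hXU hb) hu)
      have hA : a * (t * (m * v * m⁻¹) * t⁻¹) ∈ Sup X (Pos cs h) :=
        mul_mem (hXU ha) (conj_mem_U R (hH ht) (hVU (hmV v hv)))
      have e1 : a * t * m * b * (u * s * m * u') =
          (a * (t * (m * v * m⁻¹) * t⁻¹)) * t * (m * c * m⁻¹) * ((m * s * m⁻¹) * (m * m)) * u' := by
        have e2 : a * t * m * b * (u * s * m * u') = a * t * m * (b * u) * s * m * u' := by group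
        rw [e2, e]
        group
      have h2 : (m * s * m⁻¹) * (m * m) ∈ H := mul_mem (r3 s hs) r2
      generalize (m * s * m⁻¹) * (m * m) = k at e1 h2
      rw [e1]
      by_cases h3 : m * c * m⁻¹ = 1
      · refine Or.inl ⟨a * (t * (m * v * m⁻¹) * t⁻¹) * ((t * k) * u' * (t * k)⁻¹),
          mul_mem hA (conj_mem_U R (mul_mem (hH ht) (hH h2)) hu'), t * k, mul_mem ht h2, ?_⟩
        rw [h3]
        group
      · obtain ⟨a', ha', t', ht', b', hb', e4⟩ := r1 _ (hmX c hc) h3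
        have h5 : k⁻¹ * b' * k ∈ Sup X (Pos cs h) := by
          have := conj_mem_U R (inv_mem (hH h2)) (hXU hb')
          rwa [inv_inv] at this
        refine Or.inr ⟨a * (t * (m * v * m⁻¹) * t⁻¹) * (t * a' * t⁻¹), mul_mem hA (conj_mem_U R (hH ht) (hXU ha')),
          t * t' * (m * k * m⁻¹), mul_mem (mul_mem ht ht') (r3 k h2), k⁻¹ * b' * k * u', mul_mem h5 hu', ?_⟩
        rw [e4]
        group
  intro x hx
  have hx' : x ∈ Subgroup.closure (((Sup X (Pos cs h) : Subgroup Y) : Set Y) ∪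
      (((Sup X (Pos cs h)).map (MulAut.conj (n i)).toMonoidHom : Subgroup Y) : Set Y)) := by
    rw [Subgroup.closure_union, Subgroup.closure_eq, Subgroup.closure_eq]
    exact hx
  have stP : ∀ y ∈ (((Sup X (Pos cs h) : Subgroup Y) : Set Y) ∪
      (((Sup X (Pos cs h)).map (MulAut.conj (n i)).toMonoidHom : Subgroup Y) : Set Y)),
      ∀ x, ((∃ u ∈ Sup X (Pos cs h), ∃ t ∈ H, x = u * t) ∨
      ∃ u ∈ Sup X (Pos cs h), ∃ t ∈ H, ∃ u' ∈ Sup X (Pos cs h), x = u * t * m * u') →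
      ((∃ u ∈ Sup X (Pos cs h), ∃ t ∈ H, y * x = u * t) ∨
      ∃ u ∈ Sup X (Pos cs h), ∃ t ∈ H, ∃ u' ∈ Sup X (Pos cs h), y * x = u * t * m * u') := by
    rintro y (hy | ⟨u, hu, rfl⟩) x hx
    · exact stU y hy x hx
    · obtain ⟨v, hv, c, hc, rfl⟩ := exists_V_mul R i hu
      have e : (MulAut.conj (n i)).toMonoidHom (v * c) * x =
          (n i * v * (n i)⁻¹) * ((n i * c * (n i)⁻¹) * x) := by
        show n i * (v * c) * (n i)⁻¹ * x = _
        group
      rw [e]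
      exact stU _ (hVU (hnV v hv)) _ (stX _ (hnX c hc) _ hx)
  clear hx
  induction hx' using Subgroup.closure_induction_left with
  | one => exact Or.inl ⟨1, one_mem _, 1, one_mem _, by group⟩
  | mul_left y hy x _ ih => exact stP y hy x ih
  | inv_mul_cancel y hy x _ ih =>
    refine stP y⁻¹ ?_ x ih
    rcases hy with hy | hy
    · exact Or.inl (inv_mem hy)
    · exact Or.inr (inv_mem hy)

theorem not_mem_B_of_mul (R : RGD cs h p T n X) (i : I) {m : Y} (hm : ∃ t ∈ T, m = t * n i) : m ∉ B cs h T X := by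
  obtain ⟨t, ht, rfl⟩ := hm
  intro hB
  have h3 : n i ∈ B cs h T X := by
    have := mul_mem (inv_mem (T_le_B ht)) hB
    rwa [inv_mul_cancel_left] at this
  have h4 := R.eq_one_of_mem_B (rp_simple cs R.nsys i) h3
  have h5 := rep_simple_sr cs h i
  rw [h4, map_one, Module.End.one_apply] at h5
  have h6 := congrFun h5 i
  rw [Pi.neg_apply, sr_self] at h6
  exact absurd h6 (by decide)

/-- `⟨U, U^{n_i}⟩ ∩ B = U H_i` -/
theorem rone_inf_B (R : RGD cs h p T n X) (i : I) {H : Subgroup Y} (hH : H ≤ T) {m : Y}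
    (hm : ∃ t ∈ T, m = t * n i)
    (r1 : ∀ x ∈ X (-sr i), x ≠ 1 → ∃ a ∈ X (sr i), ∃ t ∈ H, ∃ b ∈ X (sr i), x = a * t * m * b)
    (r2 : m * m ∈ H) (r3 : ∀ t ∈ H, m * t * m⁻¹ ∈ H) :
    ∀ x ∈ Rone (Sup X (Pos cs h)) (n i), x ∈ B cs h T X → ∃ u ∈ Sup X (Pos cs h), ∃ t ∈ H, x = u * t := by
  intro x hx hB
  rcases rone_le R i hH hm r1 r2 r3 x hx with h1 | ⟨u, hu, t, ht, u', hu', rfl⟩
  · exact h1
  · exfalso
    apply not_mem_B_of_mul R i hm
    have e : m = t⁻¹ * u⁻¹ * (u * t * m * u') * u'⁻¹ := by group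
    rw [e]
    exact mul_mem (mul_mem (mul_mem (inv_mem (T_le_B (hH ht))) (inv_mem (U_le_B hu))) hB) (inv_mem (U_le_B hu'))

/-- `N ∩ U = 1` -/
theorem eq_one_of_mem_U [Finite Y] (R : RGD cs h p T n X) {u : Y} (hu : u ∈ Sup X (Pos cs h)) (hT : u ∈ T) :
    u = 1 := by
  have h1 : IsPGroup p ↥(Sup X (Pos cs h)) := R.isPGroup_Upos
  obtain ⟨k, hk⟩ := h1 ⟨u, hu⟩
  have h2 : u ^ p ^ k = 1 := congrArg Subtype.val hk
  have h4 : (⟨u, hT⟩ : T) ^ Nat.card T = 1 := pow_card_eq_one'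
  have h5 : u ^ Nat.card T = 1 := congrArg Subtype.val h4
  have h6 : (Nat.card T).Coprime (p ^ k) := R.tcop.pow_right k
  have h7 := pow_gcd_eq_one.2 ⟨h5, h2⟩
  rwa [h6, pow_one] at h7

/-- The rank one torus, from explicit data. -/
theorem TLL_le [Finite Y] (R : RGD cs h p T n X) (i : I) {H : Subgroup Y} (hH : H ≤ T) {m : Y}
    (hm : ∃ t ∈ T, m = t * n i)
    (r1 : ∀ x ∈ X (-sr i), x ≠ 1 → ∃ a ∈ X (sr i), ∃ t ∈ H, ∃ b ∈ X (sr i), x = a * t * m * b)
    (r2 : m * m ∈ H) (r3 : ∀ t ∈ H, m * t * m⁻¹ ∈ H) : T ⊓ LL X (sr i) ≤ H := by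
  rintro x ⟨hxT, hxL⟩
  obtain ⟨u, hu, t, ht, e⟩ := rone_inf_B R i hH hm r1 r2 r3 x (LL_le_Rone R i hxL) (T_le_B hxT)
  have h1 : u = x * t⁻¹ := by rw [e]; group
  have h2 := eq_one_of_mem_U R hu (by rw [h1]; exact mul_mem hxT (inv_mem (hH ht)))
  rw [e, h2, one_mul]
  exact ht

/-- `⟨U, U^{n_i}⟩ ∩ B = U (T ∩ ⟨X_i, X_{-i}⟩)` -/
theorem rone_inf_B' (R : RGD cs h p T n X) (i : I) :
    ∀ x ∈ Rone (Sup X (Pos cs h)) (n i), x ∈ B cs h T X →
      ∃ u ∈ Sup X (Pos cs h), ∃ t ∈ T ⊓ LL X (sr i), x = u * t := by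
  obtain ⟨m, hmL, -, t0, ht0, hm⟩ := exists_mem_LL R i
  have hL : X (sr i) ≤ LL X (sr i) := le_sup_left
  have hL' : X (-sr i) ≤ LL X (sr i) := le_sup_right
  have hmT : ∀ t ∈ T, m * t * m⁻¹ ∈ T := fun t ht => by
    have h1 : n i * t * (n i)⁻¹ ∈ T := (Subgroup.mem_normalizer_iff.1 (R.nsys.norm i) t).1 ht
    have e : m * t * m⁻¹ = t0 * (n i * t * (n i)⁻¹) * t0⁻¹ := by rw [hm]; group
    rw [e]
    exact mul_mem (mul_mem ht0 h1) (inv_mem ht0)
  refine rone_inf_B R i inf_le_left ⟨t0, ht0, hm⟩ ?_ ?_ ?_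
  · intro x hx hx1
    obtain ⟨a, ha, t, ht, b, hb, e⟩ := R.rk1 i x hx hx1
    have e1 : x = a * (t * t0⁻¹) * m * b := by rw [e, hm]; group
    refine ⟨a, ha, t * t0⁻¹, Subgroup.mem_inf.2 ⟨mul_mem ht (inv_mem ht0), ?_⟩, b, hb, e1⟩
    have e2 : t * t0⁻¹ = a⁻¹ * x * b⁻¹ * m⁻¹ := by rw [e1]; group
    rw [e2]
    exact mul_mem (mul_mem (mul_mem (inv_mem (hL ha)) (hL' hx)) (inv_mem (hL hb))) (inv_mem hmL)
  · refine Subgroup.mem_inf.2 ⟨?_, mul_mem hmL hmL⟩
    have h1 : n i * t0 * (n i)⁻¹ ∈ T := (Subgroup.mem_normalizer_iff.1 (R.nsys.norm i) t0).1 ht0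
    have e : m * m = t0 * (n i * t0 * (n i)⁻¹) * (n i * n i) := by rw [hm]; group
    rw [e]
    exact mul_mem (mul_mem ht0 h1) (R.sq_mem_T i)
  · rintro t ⟨ht, htL⟩
    exact Subgroup.mem_inf.2 ⟨hmT t ht, mul_mem (mul_mem hmL htL) (inv_mem hmL)⟩

omit [Fintype I] [DecidableEq I] [Group W] [Finite W] in
theorem isCyclic_of_exists {K : Subgroup Y} (hK : ∃ c ∈ K, ∀ x ∈ K, ∃ k : ℤ, x * c ^ k = 1) : IsCyclic ↥K := by
  obtain ⟨c, hc, hK⟩ := hK
  refine ⟨⟨c, hc⟩, fun x => ?_⟩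
  obtain ⟨k, hk⟩ := hK x.1 x.2
  refine Subgroup.mem_zpowers_iff.2 ⟨-k, Subtype.ext ?_⟩
  show c ^ (-k) = x.1
  rw [zpow_neg]
  exact (eq_inv_of_mul_eq_one_left hk).symm

theorem cyc_of_rgd [Finite Y] (R : RGD cs h p T n X) (hgen : B cs h T X ⊔ NN cs R.nsys = ⊤) (i : I)
    (hc : IsCyclic ↥(T ⊓ LL X (sr i))) :
    ∃ c ∈ Rone (Sup X (Pos cs h)) (n i), c ∈ (R.bnPair hgen).B ∧
      ∀ x ∈ Rone (Sup X (Pos cs h)) (n i), x ∈ (R.bnPair hgen).B → ∃ k : ℤ, x * c ^ k ∈ Sup X (Pos cs h) := by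
  obtain ⟨⟨c, hcT, hcL⟩, hgen'⟩ := hc.exists_generator
  refine ⟨c, LL_le_Rone R i hcL, T_le_B hcT, fun x hx hB => ?_⟩
  obtain ⟨u, hu, t, ht, e⟩ := rone_inf_B' R i x hx hB
  obtain ⟨k, hk⟩ := Subgroup.mem_zpowers_iff.1 (hgen' ⟨t, ht⟩)
  have hk' : c ^ k = t := by
    have := congrArg Subtype.val hk
    simpa using this
  refine ⟨-k, ?_⟩
  rw [e, zpow_neg, hk', mul_inv_cancel_right]
  exact hu

theorem inv_of_rgd [Finite Y] (R : RGD cs h p T n X) (hgen : B cs h T X ⊔ NN cs R.nsys = ⊤) (i : I)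
    (hinv : ∀ t ∈ T, t ∈ LL X (sr i) → n i * t * (n i)⁻¹ * t = 1) :
    ∀ x ∈ Rone (Sup X (Pos cs h)) (n i), x ∈ (R.bnPair hgen).B → x ∈ (R.bnPair hgen).N →
      n i * x * (n i)⁻¹ * x = 1 := by
  intro x hx hB hN
  have h1 : x ∈ T := by
    rw [← R.B_inf_NN]
    exact ⟨hB, hN⟩
  obtain ⟨u, hu, t, ht, e⟩ := rone_inf_B' R i x hx hB
  have h3 : u = x * t⁻¹ := by rw [e]; group
  have h2 := eq_one_of_mem_U R hu (by rw [h3]; exact mul_mem h1 (inv_mem ht.1))
  rw [e, h2, one_mul]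
  exact hinv t ht.1 ht.2

/-- **`KTor` from root group data of rank two.** -/
theorem kTor_of_rgd [Finite Y] (R : RGD cs h p T n X) (hgen : B cs h T X ⊔ NN cs R.nsys = ⊤) (i j : I)
    (hci : IsCyclic ↥(T ⊓ LL X (sr i))) (hcj : IsCyclic ↥(T ⊓ LL X (sr j)))
    (hinv : (∀ t ∈ T, t ∈ LL X (sr i) → n i * t * (n i)⁻¹ * t = 1) ∨
      ∀ t ∈ T, t ∈ LL X (sr j) → n j * t * (n j)⁻¹ * t = 1) :
    KTor (R.bnPair hgen) (Sup X (Pos cs h)) (n i) (n j) where
  cycs := cyc_of_rgd R hgen i hci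
  cyct := cyc_of_rgd R hgen j hcj
  inv := hinv.imp (inv_of_rgd R hgen i) (inv_of_rgd R hgen j)

/-- **(T1)** -/
theorem gen_of_rgd [Finite Y] (R : RGD cs h p T n X) (hG : G1 cs h X = ⊤) {i j : I}
    (hI : ∀ k, k = i ∨ k = j) :
    B cs h T X ≤ (Rone (Sup X (Pos cs h)) (n i) ⊓ B cs h T X) ⊔ (Rone (Sup X (Pos cs h)) (n j) ⊓ B cs h T X) := by
  have hGG : GG cs h T X = ⊤ := by
    rw [eq_top_iff, ← hG]
    exact le_sup_right
  have hTH : HH cs h X = T := by
    have := HH_inf_GG R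
    rwa [hGG, inf_top_eq] at this
  have hk : ∀ k, TT cs h X (sr k) ≤ Rone (Sup X (Pos cs h)) (n k) ⊓ B cs h T X := by
    intro k
    refine le_inf ?_ ?_
    · exact le_trans inf_le_left (LL_le_Rone R k)
    · refine le_trans inf_le_right ?_
      rw [hTH]
      exact T_le_B
  refine (B_le R hG).trans (sup_le (iSup_le fun k => ?_) ?_)
  · rcases hI k with rfl | rfl
    · exact (hk _).trans le_sup_left
    · exact (hk _).trans le_sup_right
  · exact le_trans (le_inf le_sup_left U_le_B) le_sup_left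

theorem core_eq_bot [IsSimpleGroup Y] (R : RGD cs h p T n X) (i : I) : (B cs h T X).normalCore = ⊥ := by
  rcases (inferInstance : (B cs h T X).normalCore.Normal).eq_bot_or_eq_top with h1 | h1
  · exact h1
  · exfalso
    apply R.not_neg_le_B i
    intro x _
    have h2 : x ∈ (B cs h T X).normalCore := by rw [h1]; exact Subgroup.mem_top x
    exact Subgroup.normalCore_le _ h2

/-! ### Quotients -/

theorem LL_map {Y₀ : Type*} [Group Y₀] (π : Y₀ →* Y) (X₀ : (I → ℤ) → Subgroup Y₀) (x : I → ℤ) :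
    LL (fun z => (X₀ z).map π) x = (LL X₀ x).map π := by
  unfold LL
  rw [Subgroup.map_sup]

theorem TLL_map {Y₀ : Type*} [Group Y₀] (π : Y₀ →* Y) {T₀ : Subgroup Y₀} (hker : π.ker ≤ T₀)
    (X₀ : (I → ℤ) → Subgroup Y₀) (x : I → ℤ) :
    T₀.map π ⊓ LL (fun z => (X₀ z).map π) x = (T₀ ⊓ LL X₀ x).map π := by
  rw [LL_map]
  apply le_antisymm
  · rintro _ ⟨⟨t, ht, rfl⟩, l, hl, e⟩
    have h1 : t⁻¹ * l ∈ π.ker := by rw [MonoidHom.mem_ker, map_mul, map_inv, e, inv_mul_cancel]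
    have h2 : l ∈ T₀ := by
      have := mul_mem ht (hker h1)
      rwa [mul_inv_cancel_left] at this
    exact ⟨l, Subgroup.mem_inf.2 ⟨h2, hl⟩, e⟩
  · exact le_inf (Subgroup.map_mono inf_le_left) (Subgroup.map_mono inf_le_right)

theorem isCyclic_TLL_map {Y₀ : Type*} [Group Y₀] (π : Y₀ →* Y) {T₀ : Subgroup Y₀} (hker : π.ker ≤ T₀)
    {X₀ : (I → ℤ) → Subgroup Y₀} {x : I → ℤ} (hc : IsCyclic ↥(T₀ ⊓ LL X₀ x)) :
    IsCyclic ↥(T₀.map π ⊓ LL (fun z => (X₀ z).map π) x) := by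
  rw [TLL_map π hker]
  exact isCyclic_of_surjective (π.subgroupMap (T₀ ⊓ LL X₀ x)) (π.subgroupMap_surjective _)

theorem inv_TLL_map {Y₀ : Type*} [Group Y₀] (π : Y₀ →* Y) {T₀ : Subgroup Y₀} (hker : π.ker ≤ T₀)
    {X₀ : (I → ℤ) → Subgroup Y₀} {x : I → ℤ} {m : Y₀} (hinv : ∀ t ∈ T₀, t ∈ LL X₀ x → m * t * m⁻¹ * t = 1) :
    ∀ t ∈ T₀.map π, t ∈ LL (fun z => (X₀ z).map π) x → π m * t * (π m)⁻¹ * t = 1 := by
  intro t ht hL
  have h1 : t ∈ (T₀ ⊓ LL X₀ x).map π := by
    rw [← TLL_map π hker]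
    exact Subgroup.mem_inf.2 ⟨ht, hL⟩
  obtain ⟨l, hl, rfl⟩ := h1
  rw [← map_inv, ← map_mul, ← map_mul, ← map_mul, hinv l hl.1 hl.2, map_one]

/-- **`KPair` from root group data of rank two.** -/
theorem kPair_of_rgd [Finite Y] [Fact p.Prime] [IsSimpleGroup Y] (R : RGD cs h p T n X) (hG : G1 cs h X = ⊤)
    {i j : I} (hij : i ≠ j) (hI : ∀ k, k = i ∨ k = j) (hM : M i j ≠ 2)
    (hX : ∀ z, IsRoot cs h z → 0 ≤ z → z ≠ sr i → z ≠ sr j →
      X z ≤ ⁅Sup X (Pos cs h), Sup X (Pos cs h)⁆)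
    (hT : ∀ x ∈ T, ∀ y ∈ T, x * y = y * x)
    (hi : ∃ a ∈ T, ∀ x ∈ X (sr i), a * x * a⁻¹ = x → x = 1)
    (hj : ∃ a ∈ T, ∀ x ∈ X (sr j), a * x * a⁻¹ = x → x = 1) :
    KPair p (R.bnPair (rgd_gen_of_G1 R hG)) (Sup X (Pos cs h)) (n i) (n j) where
  split := OfRGD.split R _ (core_eq_bot R i)
  S := by
    show Set.range n = _
    ext x
    constructor
    · rintro ⟨k, rfl⟩
      rcases hI k with rfl | rfl
      · exact Or.inl rfl
      · exact Or.inr rfl
    · rintro (rfl | rfl)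
      · exact ⟨i, rfl⟩
      · exact ⟨j, rfl⟩
  ne := fun e => hij (R.n_injective e)
  irr := by
    intro hm
    have h1 := R.eq_one_of_mem_B ((((rp_simple cs R.nsys i).mul (rp_simple cs R.nsys j)).mul
      (rp_simple cs R.nsys i).inv).mul (rp_simple cs R.nsys j).inv) hm
    exact comm_ne (cs := cs) (h := h) hij hM h1
  one := fOne_of_rgd R _ hX
  gen := gen_of_rgd R hG hI
  fpfs := kFpf_of_rgd R _ i hi
  fpft := kFpf_of_rgd R _ j hj
  comm := by
    intro x hx y hy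
    obtain ⟨t, ht, u, hu, rfl⟩ := R.mem_B.1 hx
    obtain ⟨t', ht', u', hu', rfl⟩ := R.mem_B.1 hy
    have e1 : t * t' * t⁻¹ = t' := by rw [hT t ht t' ht']; group
    have e : t * u * (t' * u') * (t * u)⁻¹ * (t' * u')⁻¹ =
        (t * u * t⁻¹) * ((t * t') * (u' * u⁻¹) * (t * t')⁻¹) * ((t * t' * t⁻¹) * u'⁻¹ * t'⁻¹) := by group
    rw [e, e1]
    exact mul_mem (mul_mem (conj_mem_U R ht hu) (conj_mem_U R (mul_mem ht ht') (mul_mem hu' (inv_mem hu))))
      (conj_mem_U R ht' (inv_mem hu'))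

/-- **`HasKPair`.** -/
theorem hasKPair_of_rgd [Finite Y] [Fact p.Prime] [IsSimpleGroup Y] (R : RGD cs h p T n X) (hG : G1 cs h X = ⊤)
    {i j : I} (hij : i ≠ j) (hI : ∀ k, k = i ∨ k = j) (hM : M i j ≠ 2)
    (hX : ∀ z, IsRoot cs h z → 0 ≤ z → z ≠ sr i → z ≠ sr j →
      X z ≤ ⁅Sup X (Pos cs h), Sup X (Pos cs h)⁆)
    (hT : ∀ x ∈ T, ∀ y ∈ T, x * y = y * x)
    (hci : IsCyclic ↥(T ⊓ LL X (sr i))) (hcj : IsCyclic ↥(T ⊓ LL X (sr j)))
    (hinv : (∀ t ∈ T, t ∈ LL X (sr i) → n i * t * (n i)⁻¹ * t = 1) ∨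
      ∀ t ∈ T, t ∈ LL X (sr j) → n j * t * (n j)⁻¹ * t = 1)
    (hi : ∃ a ∈ T, ∀ x ∈ X (sr i), a * x * a⁻¹ = x → x = 1)
    (hj : ∃ a ∈ T, ∀ x ∈ X (sr j), a * x * a⁻¹ = x → x = 1) : HasKPair p Y :=
  ⟨_, _, _, _, kPair_of_rgd R hG hij hI hM hX hT hi hj, kTor_of_rgd R _ i j hci hcj hinv⟩

/-- **`HasKPairSep`.** -/
theorem hasKPairSep_of_rgd [Finite Y] [Fact p.Prime] [IsSimpleGroup Y] (R : RGD cs h p T n X) (hG : G1 cs h X = ⊤)
    {i j : I} (hij : i ≠ j) (hI : ∀ k, k = i ∨ k = j) (hM : M i j ≠ 2)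
    (hX : ∀ z, IsRoot cs h z → 0 ≤ z → z ≠ sr i → z ≠ sr j →
      X z ≤ ⁅Sup X (Pos cs h), Sup X (Pos cs h)⁆)
    (hT : ∀ x ∈ T, ∀ y ∈ T, x * y = y * x)
    (hci : IsCyclic ↥(T ⊓ LL X (sr i))) (hcj : IsCyclic ↥(T ⊓ LL X (sr j)))
    (hinv : (∀ t ∈ T, t ∈ LL X (sr i) → n i * t * (n i)⁻¹ * t = 1) ∨
      ∀ t ∈ T, t ∈ LL X (sr j) → n j * t * (n j)⁻¹ * t = 1)
    (hi : ∃ a ∈ T, ∀ x ∈ X (sr i), a * x * a⁻¹ = x → x = 1)
    (hs : ∃ a ∈ T, (∀ x ∈ X (sr i), a * x * a⁻¹ = x) ∧ ∀ x ∈ X (sr j), a * x * a⁻¹ = x → x = 1) :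
    HasKPairSep p Y := by
  obtain ⟨a, ha, h1, h2⟩ := hs
  exact ⟨_, _, _, _, kPair_of_rgd R hG hij hI hM hX hT hi ⟨a, ha, h2⟩, kTor_of_rgd R _ i j hci hcj hinv,
    Or.inl (kSep_of_rgd R _ i j ⟨a, ha, h1, h2⟩)⟩

end Cfsg.Agent.ParSys.Fam

end

section


/-!
# A root group datum is a system of minimal parabolic subgroups (`ThmID.XSys`)

`R : RGD cs h 2 T n X`, `GG cs h T X = ⊤`, `Y` and `W` finite:
`xsys : XSys U B (fun j => P_j) (M i j) (fun j => |X_j|)`, `U = Sup X Pos`, `B = T U`, `P_j = PJ cs h T X {j}`.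
-/

set_option autoImplicit false
set_option linter.unusedSectionVars false

namespace Cfsg.Agent.Omega.EH3Close.OfRGD

open CoxeterSystem Cfsg.Agent.ChevalleyStructure.CoxeterGeom Cfsg.Agent.Tits.Roots Cfsg.Agent.Tits.Core
  Cfsg.Agent.Tits.RootComb Cfsg.Agent.Nodes.Comb Cfsg.Agent.Nodes.Reps Cfsg.Agent.Nodes.BNOf
  Cfsg.Agent.Nodes.StabComb Cfsg.Agent.Nodes.Bruhat Cfsg.Agent.Nodes.LeviDec Cfsg.Agent.Nodes.NormalForm
  Cfsg.Agent.ParSys Cfsg.Agent.Omega.ThmID

variable {I W Y : Type*} [Fintype I] [DecidableEq I] [Group W] [Group Y] {M : CoxeterMatrix I}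
  {cs : CoxeterSystem M W} {A : I → I → ℤ} {h : IsCartan M A} {p : ℕ} {T : Subgroup Y} {n : I → Y}
  {X : (I → ℤ) → Subgroup Y}

theorem mem_WJ_single {w : W} {j : I} : w ∈ WJ cs {j} ↔ w = 1 ∨ w = cs.simple j := by
  unfold WJ
  rw [Set.image_singleton, ← Subgroup.zpowers_eq_closure]
  constructor
  · intro hw
    obtain ⟨k, rfl⟩ := Subgroup.mem_zpowers_iff.1 hw
    have h2 : cs.simple j ^ (2 : ℤ) = 1 := by
      rw [zpow_ofNat, pow_two, cs.simple_mul_simple_self]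
    rcases Int.even_or_odd' k with ⟨m, rfl | rfl⟩
    · left; rw [zpow_mul, h2, one_zpow]
    · right; rw [zpow_add, zpow_mul, h2, one_zpow, one_mul, zpow_one]
  · rintro (rfl | rfl)
    · exact one_mem _
    · exact Subgroup.mem_zpowers _

section

variable (R : RGD cs h p T n X) [Finite W]

include R

/-- the elements of `P_j` outside `B` are the elements of the cell of `s_j` -/
theorem cell_of_mem {j : I} {g : Y} (hg : g ∈ PJ cs h T X {j}) (hgB : g ∉ RGD.B cs h T X) :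
    Cell R.nsys cs h X (cs.simple j) g := by
  obtain ⟨w, hw, hc⟩ := (mem_PJ_iff_cell R).1 hg
  rcases mem_WJ_single.1 hw with rfl | rfl
  · exact absurd hc.mem_of_one hgB
  · exact hc

theorem mem_PJ_of_cell {j : I} {g : Y} (hc : Cell R.nsys cs h X (cs.simple j) g) : g ∈ PJ cs h T X {j} :=
  (mem_PJ_iff_cell R).2 ⟨_, mem_WJ_single.2 (Or.inr rfl), hc⟩

theorem n_mem (j : I) : n j ∈ PJ cs h T X {j} := mem_PJ_of_cell R (cell_of_rp (rp_simple cs R.nsys j))

theorem n_not_mem (j : I) : n j ∉ RGD.B cs h T X := by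
  intro hB
  have h1 := Cell.unique R (cell_of_rp (rp_simple cs R.nsys j)) (cell_one_of_mem hB)
  have h5 := rep_simple_sr cs h j
  rw [h1, map_one, Module.End.one_apply] at h5
  have h6 := congrFun h5 j
  rw [Pi.neg_apply, sr_self] at h6
  exact absurd h6 (by decide)

/-- galleries of reduced type -/
theorem gal_cell {f : List I} (hf : cs.IsReduced f) {l : List Y}
    (hl : GalE (RGD.B cs h T X) (fun j => PJ cs h T X {j}) f l) : Cell R.nsys cs h X (cs.wordProd f) l.prod := by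
  induction f generalizing l with
  | nil =>
    cases l with
    | nil => rw [cs.wordProd_nil, List.prod_nil]; exact cell_one_of_mem (one_mem _)
    | cons x l => exact hl.elim
  | cons i f ih =>
    cases l with
    | nil => exact hl.elim
    | cons x l =>
      have hf' : cs.IsReduced f := by
        have := hf.drop 1
        simpa using this
      rw [cs.wordProd_cons, List.prod_cons]
      refine Cell.mul_of_length R ?_ (cell_of_mem R hl.1.1 hl.1.2) (ih hf' hl.2)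
      rw [← cs.wordProd_cons, hf.eq, cs.length_simple, hf'.eq, List.length_cons, add_comm]

theorem gal_uniq {f : List I} (hf : cs.IsReduced f) {l l' : List Y}
    (hl : GalE (RGD.B cs h T X) (fun j => PJ cs h T X {j}) f l)
    (hl' : GalE (RGD.B cs h T X) (fun j => PJ cs h T X {j}) f l') {z w : Y} (hzw : z⁻¹ * w ∈ RGD.B cs h T X)
    (hend : (z * l.prod)⁻¹ * (w * l'.prod) ∈ RGD.B cs h T X) : Same (RGD.B cs h T X) z w l l' := by
  induction f generalizing l l' z w with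
  | nil =>
    cases l with
    | nil =>
      cases l' with
      | nil => exact hzw
      | cons x l => exact hl'.elim
    | cons x l => exact hl.elim
  | cons i f ih =>
    cases l with
    | nil => exact hl.elim
    | cons x l =>
      cases l' with
      | nil => exact hl'.elim
      | cons x' l' =>
        have hf' : cs.IsReduced f := by
          have := hf.drop 1
          simpa using this
        refine ⟨hzw, ih hf' hl.2 hl'.2 ?_ ?_⟩
        · by_contra hy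
          have hyP : (z * x)⁻¹ * (w * x') ∈ PJ cs h T X {i} := by
            have e : (z * x)⁻¹ * (w * x') = x⁻¹ * (z⁻¹ * w) * x' := by group
            rw [e]
            exact mul_mem (mul_mem (inv_mem hl.1.1) (B_le_PJ hzw)) hl'.1.1
          have h1 := gal_cell R hf
            (show GalE (RGD.B cs h T X) (fun j => PJ cs h T X {j}) (i :: f) ((z * x)⁻¹ * (w * x') :: l') from
              ⟨⟨hyP, hy⟩, hl'.2⟩)
          have h2 := gal_cell R hf' hl.2
          have h3 : Cell R.nsys cs h X (cs.wordProd f) ((z * x)⁻¹ * (w * x') :: l').prod := by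
            have h4 := h2.mul_right hend
            have e : l.prod * ((z * (x :: l).prod)⁻¹ * (w * (x' :: l').prod)) =
                ((z * x)⁻¹ * (w * x') :: l').prod := by
              simp only [List.prod_cons]; group
            rwa [e] at h4
          have h5 := Cell.unique R h1 h3
          have h6 := congrArg cs.length h5
          rw [hf.eq, hf'.eq, List.length_cons] at h6
          omega
        · have e : (z * x * l.prod)⁻¹ * (w * x' * l'.prod) =
              (z * (x :: l).prod)⁻¹ * (w * (x' :: l').prod) := by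
            simp only [List.prod_cons, mul_assoc]
          rw [e]; exact hend

theorem gal_trans {f : List I} (hf : cs.IsReduced f) {l l' : List Y}
    (hl : GalE (RGD.B cs h T X) (fun j => PJ cs h T X {j}) f l)
    (hl' : GalE (RGD.B cs h T X) (fun j => PJ cs h T X {j}) f l') :
    ∃ y ∈ RGD.B cs h T X, Same (RGD.B cs h T X) y 1 l l' := by
  obtain ⟨c, hc, k, hk, d, hd, h1⟩ := gal_cell R hf hl
  obtain ⟨c', hc', k', hk', d', hd', h2⟩ := gal_cell R hf hl'
  refine ⟨c' * c⁻¹, mul_mem hc' (inv_mem hc), gal_uniq R hf hl hl' ?_ ?_⟩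
  · simpa using inv_mem (mul_mem hc' (inv_mem hc))
  · have e : (c' * c⁻¹ * l.prod)⁻¹ * (1 * l'.prod) = d⁻¹ * (k⁻¹ * k') * d' := by rw [h1, h2]; group
    rw [e]
    exact mul_mem (mul_mem (inv_mem hd) (RGD.T_le_B (hk.unique hk'))) hd'

theorem galE_std (f : List I) : GalE (RGD.B cs h T X) (fun j => PJ cs h T X {j}) f (f.map n) := by
  induction f with
  | nil => trivial
  | cons i f ih => exact ⟨⟨n_mem R i, n_not_mem R i⟩, ih⟩

theorem rp_map (f : List I) : Rp cs R.nsys (cs.wordProd f) (f.map n).prod := by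
  induction f with
  | nil => rw [cs.wordProd_nil]; exact rp_one
  | cons i f ih => rw [cs.wordProd_cons, List.map_cons, List.prod_cons]; exact (rp_simple cs R.nsys i).mul ih

/-- **the residues are generalised polygons** -/
theorem polygon (i j : I) :
    Polygon (RGD.B cs h T X) (fun j => PJ cs h T X {j}) i j (M i j) := by
  have r1 : cs.IsReduced (alt i j (M i j)) := Words.isReduced_alt cs fun _ => le_rfl
  have r2 : cs.IsReduced (alt j i (M i j)) := Words.isReduced_alt cs fun _ => by rw [M.symmetric j i]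
  have hw : cs.wordProd (alt i j (M i j)) = cs.wordProd (alt j i (M i j)) := by
    have e7 := (LieExceptional.CoxeterExchange.pow_eq_one_iff (σ := cs.simple) cs.simple_mul_simple_self (x := i) (y := j)
      (M i j)).1 (cs.simple_mul_simple_pow i j)
    rw [Words.alt_eq, Words.alt_eq] at e7
    exact e7
  refine ⟨fun l l' hl hl' he => gal_uniq R r1 hl hl' (by simp [one_mem]) (by simpa using he),
    fun l l' hl hl' he => gal_uniq R r2 hl hl' (by simp [one_mem]) (by simpa using he),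
    ⟨_, _, galE_std R _, galE_std R _, ?_⟩, fun l l' hl hl' => gal_trans R r1 hl hl',
    fun l l' hl hl' => gal_trans R r2 hl hl'⟩
  have h1 := rp_map R (alt i j (M i j))
  have h2 := rp_map R (alt j i (M i j))
  rw [hw] at h1
  exact RGD.T_le_B (h1.unique h2)

/-! ### panels -/

/-- an element of `P_j` outside `B` is `u n_j b`, `u ∈ X_j` -/
theorem exists_form {j : I} {g : Y} (hg : g ∈ PJ cs h T X {j}) (hgB : g ∉ RGD.B cs h T X) :
    ∃ u ∈ X (sr j), ∃ b ∈ RGD.B cs h T X, g = u * n j * b := by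
  obtain ⟨b₁, hb₁, k, hk, b₂, hb₂, rfl⟩ := cell_of_mem R hg hgB
  obtain ⟨v, hv, u, hu, t, ht, rfl⟩ := R.mem_B' j hb₁
  have hk1 : (n j)⁻¹ * k ∈ T := (rp_simple cs R.nsys j).unique hk
  have hV : ∀ v ∈ RGD.Sup X (RGD.PosNe cs h j), (n j)⁻¹ * v * n j ∈ RGD.B cs h T X := fun v hv =>
    ParSys.Fam.V_conj_mem_B R j hv
  -- `v u = u v'`
  have h1 : u⁻¹ * v * u ∈ RGD.Sup X (RGD.PosNe cs h j) := by
    have h2 := R.X_le_normalizer_V j (inv_mem hu)
    have h3 := (Subgroup.mem_normalizer_iff.1 h2 v).1 hv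
    rwa [inv_inv] at h3
  have ht' : (n j)⁻¹ * t * n j ∈ T := by
    have h2 := (Subgroup.mem_normalizer_iff.1 (inv_mem (R.nsys.norm j)) t).1 ht
    rwa [inv_inv] at h2
  refine ⟨u, hu, ((n j)⁻¹ * (u⁻¹ * v * u) * n j) * (((n j)⁻¹ * t * n j) * ((n j)⁻¹ * k)) * b₂,
    mul_mem (mul_mem (hV _ h1) (RGD.T_le_B (mul_mem ht' hk1))) hb₂, ?_⟩
  group

/-- an element of `U` which fixes a second chamber of the panel -/
theorem mem_V_of_conj {j : I} {g u : Y} (hg : g ∈ RGD.Sup X (RGD.Pos cs h)) (hu : u ∈ X (sr j))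
    (hB : (n j)⁻¹ * (u⁻¹ * g * u) * n j ∈ RGD.B cs h T X) : g ∈ RGD.Sup X (RGD.PosNe cs h j) := by
  have huU : u ∈ RGD.Sup X (RGD.Pos cs h) :=
    RGD.le_Sup (S := RGD.Pos cs h) ⟨isRoot_sr cs h j, sr_nonneg j⟩ hu
  obtain ⟨v, hv, c, hc, e⟩ := ParSys.Fam.exists_V_mul R j (mul_mem (mul_mem (inv_mem huU) hg) huU)
  have h1 : (n j)⁻¹ * c * (n j)⁻¹⁻¹ ∈ RGD.B cs h T X := by
    have h2 := ParSys.Fam.V_conj_mem_B R j hv
    have e2 : (n j)⁻¹ * c * (n j)⁻¹⁻¹ = ((n j)⁻¹ * v * n j)⁻¹ * ((n j)⁻¹ * (u⁻¹ * g * u) * n j) := by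
      rw [e]; group
    rw [e2]
    exact mul_mem (inv_mem h2) hB
  have h2 : Rp cs R.nsys (cs.simple j) (n j)⁻¹ := by
    have := (rp_simple cs R.nsys j).inv
    rwa [cs.inv_simple] at this
  have h3 := eq_one_of_conj_mem_B R hc h2 h1
  rw [h3, mul_one] at e
  have h4 := R.X_le_normalizer_V j hu
  have h5 := (Subgroup.mem_normalizer_iff.1 h4 (u⁻¹ * g * u)).1 (e ▸ hv)
  have e3 : u * (u⁻¹ * g * u) * u⁻¹ = g := by group
  rwa [e3] at h5

theorem conj_mem_of_mem_V {j : I} {g : Y} (hg : g ∈ RGD.Sup X (RGD.PosNe cs h j)) {y : Y}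
    (hy : y ∈ PJ cs h T X {j}) : y⁻¹ * g * y ∈ RGD.B cs h T X := by
  have hgB : g ∈ RGD.B cs h T X :=
    RGD.U_le_B (RGD.Sup_mono (S := RGD.PosNe cs h j) (S' := RGD.Pos cs h) (fun z hz => ⟨hz.1, hz.2.1⟩) hg)
  by_cases hyB : y ∈ RGD.B cs h T X
  · exact mul_mem (mul_mem (inv_mem hyB) hgB) hyB
  · obtain ⟨u, hu, b, hb, rfl⟩ := exists_form R hy hyB
    have h1 : u⁻¹ * g * u ∈ RGD.Sup X (RGD.PosNe cs h j) := by
      have h2 := R.X_le_normalizer_V j (inv_mem hu)
      have h3 := (Subgroup.mem_normalizer_iff.1 h2 g).1 hg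
      rwa [inv_inv] at h3
    have h2 := ParSys.Fam.V_conj_mem_B R j h1
    have e : (u * n j * b)⁻¹ * g * (u * n j * b) = b⁻¹ * ((n j)⁻¹ * (u⁻¹ * g * u) * n j) * b := by group
    rw [e]
    exact mul_mem (mul_mem (inv_mem hb) h2) hb

/-- the panel condition -/
theorem pan {j : I} {g : Y} (hg : g ∈ RGD.Sup X (RGD.Pos cs h)) {x : Y} (hx : x ∈ PJ cs h T X {j})
    (hxB : x ∉ RGD.B cs h T X) (hgx : x⁻¹ * g * x ∈ RGD.B cs h T X) {y : Y} (hy : y ∈ PJ cs h T X {j}) :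
    y⁻¹ * g * y ∈ RGD.B cs h T X := by
  obtain ⟨u, hu, b, hb, rfl⟩ := exists_form R hx hxB
  refine conj_mem_of_mem_V R (mem_V_of_conj R hg hu ?_) hy
  have h1 := mul_mem (mul_mem hb hgx) (inv_mem hb)
  have e : b * ((u * n j * b)⁻¹ * g * (u * n j * b)) * b⁻¹ = (n j)⁻¹ * (u⁻¹ * g * u) * n j := by group
  rwa [e] at h1

/-- the number of chambers of a panel -/
theorem relIndex_PJ [Finite Y] (j : I) :
    (RGD.B cs h T X).relIndex (PJ cs h T X {j}) = Nat.card (X (sr j)) + 1 := by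
  classical
  set B := RGD.B cs h T X with hB
  set P := PJ cs h T X {j} with hP
  have hBP : B ≤ P := B_le_PJ
  have hXB : X (sr j) ≤ B := RGD.X_le_B (isRoot_sr cs h j) (sr_nonneg j)
  let f : Option (X (sr j)) → P ⧸ B.subgroupOf P := fun o => match o with
    | none => ((1 : P) : P ⧸ B.subgroupOf P)
    | some u => ((⟨u * n j, mul_mem (hBP (hXB u.2)) (n_mem R j)⟩ : P) : P ⧸ B.subgroupOf P)
  have key : ∀ u ∈ X (sr j), ∀ u' ∈ X (sr j), (u * n j)⁻¹ * (u' * n j) ∈ B → u = u' := by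
    intro u hu u' hu' hm
    have h2 : Rp cs R.nsys (cs.simple j) (n j)⁻¹ := by
      have := (rp_simple cs R.nsys j).inv
      rwa [cs.inv_simple] at this
    have h3 := eq_one_of_conj_mem_B R (mul_mem (inv_mem hu) hu') h2 (by
      have e : (n j)⁻¹ * (u⁻¹ * u') * (n j)⁻¹⁻¹ = (u * n j)⁻¹ * (u' * n j) := by group
      rw [e]; exact hm)
    exact (inv_mul_eq_one.1 h3)
  have hf : Function.Bijective f := by
    constructor
    · intro o o' e
      cases o with
      | none =>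
        cases o' with
        | none => rfl
        | some u' =>
          exfalso
          have e' : ((1 : P) : P ⧸ B.subgroupOf P) =
            ((⟨u' * n j, mul_mem (hBP (hXB u'.2)) (n_mem R j)⟩ : P) : P ⧸ B.subgroupOf P) := e
          rw [QuotientGroup.eq, Subgroup.mem_subgroupOf] at e'
          have e2 : (1 : Y)⁻¹ * (u' * n j) ∈ B := e'
          rw [inv_one, one_mul] at e2
          have := mul_mem (inv_mem (hXB u'.2)) e2
          rw [inv_mul_cancel_left] at this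
          exact n_not_mem R j this
      | some u =>
        cases o' with
        | none =>
          exfalso
          have e' : ((⟨u * n j, mul_mem (hBP (hXB u.2)) (n_mem R j)⟩ : P) : P ⧸ B.subgroupOf P) =
            ((1 : P) : P ⧸ B.subgroupOf P) := e
          have e' := e'.symm
          rw [QuotientGroup.eq, Subgroup.mem_subgroupOf] at e'
          have e2 : (1 : Y)⁻¹ * (u * n j) ∈ B := e'
          rw [inv_one, one_mul] at e2
          have := mul_mem (inv_mem (hXB u.2)) e2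
          rw [inv_mul_cancel_left] at this
          exact n_not_mem R j this
        | some u' =>
          have e' : ((⟨u * n j, mul_mem (hBP (hXB u.2)) (n_mem R j)⟩ : P) : P ⧸ B.subgroupOf P) =
            ((⟨u' * n j, mul_mem (hBP (hXB u'.2)) (n_mem R j)⟩ : P) : P ⧸ B.subgroupOf P) := e
          rw [QuotientGroup.eq, Subgroup.mem_subgroupOf] at e'
          have e2 : ((u : Y) * n j)⁻¹ * (u' * n j) ∈ B := e'
          exact congrArg some (Subtype.ext (key _ u.2 _ u'.2 e2))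
    · intro c
      induction c using QuotientGroup.induction_on with
      | _ x =>
      by_cases hx : (x : Y) ∈ B
      · refine ⟨none, ?_⟩
        show ((1 : P) : P ⧸ B.subgroupOf P) = _
        rw [QuotientGroup.eq, Subgroup.mem_subgroupOf]
        show (1 : Y)⁻¹ * x ∈ B
        rwa [inv_one, one_mul]
      · obtain ⟨u, hu, b, hb, e⟩ := exists_form R x.2 hx
        refine ⟨some ⟨u, hu⟩, ?_⟩
        show ((⟨u * n j, mul_mem (hBP (hXB hu)) (n_mem R j)⟩ : P) : P ⧸ B.subgroupOf P) = _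
        rw [QuotientGroup.eq, Subgroup.mem_subgroupOf]
        show (u * n j)⁻¹ * (x : Y) ∈ B
        rw [e]
        have e2 : (u * n j)⁻¹ * (u * n j * b) = b := by group
        rw [e2]; exact hb
  have h1 := Nat.card_congr (Equiv.ofBijective f hf)
  rw [Finite.card_option] at h1
  show Nat.card (P ⧸ B.subgroupOf P) = _
  exact h1.symm

/-- generation -/
theorem gen_top (hG : GG cs h T X = ⊤) : RGD.B cs h T X ⊔ ⨆ j, PJ cs h T X {j} = ⊤ := by
  rw [eq_top_iff, ← hG]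
  set K := RGD.B cs h T X ⊔ ⨆ j, PJ cs h T X {j} with hK
  have hB : RGD.B cs h T X ≤ K := le_sup_left
  have hP : ∀ j, PJ cs h T X {j} ≤ K := fun j => le_trans (le_iSup (fun j => PJ cs h T X {j}) j) le_sup_right
  intro g hg
  obtain ⟨w, b₁, hb₁, k, hk, b₂, hb₂, rfl⟩ := (mem_GG R).1 hg
  refine mul_mem (mul_mem (hB hb₁) ?_) (hB hb₂)
  obtain ⟨f, rfl⟩ := cs.wordProd_surjective w
  have h1 : (f.map n).prod ∈ K := by
    refine list_prod_mem ?_
    intro x hx
    obtain ⟨i, -, rfl⟩ := List.mem_map.1 hx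
    exact hP i (n_mem R i)
  have h2 := mul_mem h1 (hB (RGD.T_le_B ((rp_map R f).unique hk)))
  rwa [mul_inv_cancel_left] at h2

end

/-- **A root group datum is a system of minimal parabolic subgroups.** -/
theorem xsys [Finite W] [Finite Y] (R : RGD cs h 2 T n X) (hG : GG cs h T X = ⊤) :
    XSys (RGD.Sup X (RGD.Pos cs h)) (RGD.B cs h T X) (fun j => PJ cs h T X {j}) (fun i j => M i j)
      (fun j => Nat.card (X (sr j))) where
  two := R.isPGroup_Upos
  max U hU hTU := (eq_U_of_isPGroup R hU hTU (by rw [hG]; exact le_top)).le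
  mem_B x := by
    have h1 := normalizer_U R
    rw [hG, inf_top_eq] at h1
    rw [← h1]
    constructor
    · intro hx t ht
      exact (Subgroup.mem_normalizer_iff.1 hx t).1 ht
    · intro hx
      exact mem_normalizer_of hx
  BP j := B_le_PJ
  gen := gen_top R hG
  pol i j _ := polygon R i j
  card j := relIndex_PJ R j
  pan j g hg x hx hxB hgx y hy := pan R hg hx hxB hgx hy

end Cfsg.Agent.Omega.EH3Close.OfRGD

end

section


/-!
# EH3 END: the extended diagram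

`extM M S`, `extA A S`: the Coxeter matrix / Cartan matrix on `Option I` with a new node `none` joined by simple bonds to
the nodes of `S`.
-/

set_option autoImplicit false

namespace Cfsg.Agent.Omega.EH3Close

open Cfsg.Agent.ChevalleyStructure.CoxeterGeom

variable {I : Type*} [DecidableEq I]

/-- the extended Coxeter matrix -/
def extM (M : CoxeterMatrix I) (S : Finset I) : CoxeterMatrix (Option I) where
  M := Matrix.of fun
    | none, none => 1
    | none, some j => if j ∈ S then 3 else 2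
    | some i, none => if i ∈ S then 3 else 2
    | some i, some j => M i j
  isSymm := by
    ext i j
    rcases i with _ | i <;> rcases j with _ | j <;> try rfl
    exact M.symmetric j i
  diagonal i := by
    rcases i with _ | i
    · rfl
    · exact M.diagonal i
  off_diagonal i j hij := by
    rcases i with _ | i <;> rcases j with _ | j
    · exact absurd rfl hij
    · show (if j ∈ S then 3 else 2) ≠ 1
      split_ifs <;> decide
    · show (if i ∈ S then 3 else 2) ≠ 1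
      split_ifs <;> decide
    · exact M.off_diagonal i j fun h => hij (by rw [h])

/-- the extended Cartan matrix -/
def extA (A : I → I → ℤ) (S : Finset I) : Option I → Option I → ℤ
  | none, none => 2
  | none, some j => if j ∈ S then -1 else 0
  | some i, none => if i ∈ S then -1 else 0
  | some i, some j => A i j

variable {M : CoxeterMatrix I} {A : I → I → ℤ} {S : Finset I}

theorem extM_none_some (j : I) : extM M S none (some j) = if j ∈ S then 3 else 2 := rfl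

theorem extM_some_none (j : I) : extM M S (some j) none = if j ∈ S then 3 else 2 := rfl

theorem extM_some_some (i j : I) : extM M S (some i) (some j) = M i j := rfl

theorem isCartan_ext (h : IsCartan M A) : IsCartan (extM M S) (extA A S) where
  diag i := by
    rcases i with _ | i
    · rfl
    · exact h.diag i
  rel i j hij := by
    rcases i with _ | i <;> rcases j with _ | j
    · exact absurd rfl hij
    · rw [extM_none_some]
      by_cases hj : j ∈ S
      · right; left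
        simp [extA, hj]
      · left
        simp [extA, hj]
    · rw [extM_some_none]
      by_cases hi : i ∈ S
      · right; left
        simp [extA, hi]
      · left
        simp [extA, hi]
    · exact h.rel i j fun h => hij (by rw [h])

/-- irreducibility of the extended matrix -/
theorem ext_irred {s : I} (hs : s ∈ S)
    (hM : ∀ J : Set I, J.Nonempty → Jᶜ.Nonempty → ∃ i ∈ J, ∃ j ∈ Jᶜ, M i j ≠ 2)
    (J : Set (Option I)) (h1 : J.Nonempty) (h2 : Jᶜ.Nonempty) : ∃ i ∈ J, ∃ j ∈ Jᶜ, extM M S i j ≠ 2 := by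
  by_cases hJ : (some ⁻¹' J : Set I).Nonempty
  · by_cases hJ2 : (some ⁻¹' J : Set I)ᶜ.Nonempty
    · obtain ⟨i, hi, j, hj, hij⟩ := hM _ hJ hJ2
      exact ⟨some i, hi, some j, hj, hij⟩
    · have h3 : ∀ i : I, some i ∈ J := by
        intro i
        by_contra hi
        exact hJ2 ⟨i, hi⟩
      obtain ⟨x, hx⟩ := h2
      rcases x with _ | x
      · refine ⟨some s, h3 s, none, hx, ?_⟩
        rw [extM_some_none, if_pos hs]; decide
      · exact absurd (h3 x) hx
  · have h3 : ∀ i : I, some i ∉ J := fun i hi => hJ ⟨i, hi⟩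
    obtain ⟨x, hx⟩ := h1
    rcases x with _ | x
    · refine ⟨none, hx, some s, h3 s, ?_⟩
      rw [extM_none_some, if_pos hs]; decide
    · exact absurd hx (h3 x)

end Cfsg.Agent.Omega.EH3Close

end

section


/-!
# The orders of `U` and `V_J` for a root group datum

`card_word` : `|Sup X (Inv w)| = ∏ |X_i|` along a reduced word of `w`; `card_inv` : `= ∏ v ∈ invs, wt v`;
`card_U` : `|U| = ∏ v ∈ Rt, wt v`; `card_VJ` : `|V_J| = ∏ v ∈ Rt, v k > 0 for some k ∉ J, wt v`, for a finite set `Rt` of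
positive roots (`PosRoots A Rt`) and an invariant weight `wt` with `wt α_i = |X_i|`.
-/

set_option autoImplicit false
set_option linter.unusedSectionVars false

namespace Cfsg.Agent.Omega.EH3Close.CountU

open CoxeterSystem Cfsg.Agent.ChevalleyStructure.CoxeterGeom Cfsg.Agent.Tits.Roots Cfsg.Agent.Tits.Core
  Cfsg.Agent.Tits.RootComb Cfsg.Agent.Nodes.Comb Cfsg.Agent.Nodes.Reps Cfsg.Agent.Nodes.BNOf
  Cfsg.Agent.Nodes.StabComb Cfsg.Agent.Nodes.Bruhat Cfsg.Agent.Nodes.LeviDec Cfsg.Agent.Nodes.NormalForm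
  Cfsg.Agent.ParSys Cfsg.Agent.ParSys.RootCount Cfsg.Agent.Tits.Exchange

/-- `|K N| = |K| |N|` -/
theorem card_sup_mul {Y : Type*} [Group Y] {K N : Subgroup Y} (hn : K ≤ Subgroup.normalizer (N : Set Y))
    (hd : ∀ x ∈ K, x ∈ N → x = 1) : Nat.card ↥(K ⊔ N) = Nat.card K * Nat.card N := by
  rw [← Nat.card_prod]
  symm
  let f : K × N → ↥(K ⊔ N) := fun x => ⟨x.1 * x.2, mul_mem ((le_sup_left : K ≤ K ⊔ N) x.1.2) ((le_sup_right : N ≤ K ⊔ N) x.2.2)⟩
  refine Nat.card_congr (Equiv.ofBijective f ⟨?_, ?_⟩)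
  · rintro ⟨⟨k, hk⟩, ⟨m, hm⟩⟩ ⟨⟨k', hk'⟩, ⟨m', hm'⟩⟩ e
    have e1 : k * m = k' * m' := congrArg Subtype.val e
    have e2 : k'⁻¹ * k = m' * m⁻¹ := by
      rw [inv_mul_eq_iff_eq_mul, ← mul_assoc, ← e1, mul_inv_cancel_right]
    have h1 := hd _ (mul_mem (inv_mem hk') hk) (by rw [e2]; exact mul_mem hm' (inv_mem hm))
    have h2 : k' = k := inv_mul_eq_one.1 h1
    have h3 : m' = m := by
      rw [h1] at e2
      exact mul_inv_eq_one.1 e2.symm
    subst h2
    subst h3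
    rfl
  · rintro ⟨y, hy⟩
    have h1 : y ∈ ((K ⊔ N : Subgroup Y) : Set Y) := hy
    rw [Subgroup.coe_mul_of_left_le_normalizer_right _ _ hn, Set.mem_mul] at h1
    obtain ⟨k, hk, m, hm, e⟩ := h1
    exact ⟨(⟨k, hk⟩, ⟨m, hm⟩), Subtype.ext e⟩

variable {I W Y : Type*} [Fintype I] [DecidableEq I] [Group W] [Group Y] {M : CoxeterMatrix I}
  {cs : CoxeterSystem M W} {A : I → I → ℤ} {h : IsCartan M A} {p : ℕ} {T : Subgroup Y} {n : I → Y}
  {X : (I → ℤ) → Subgroup Y}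

section

variable (R : RGD cs h p T n X) [Finite W]

include R

/-- one more simple root -/
theorem card_step {i : I} {w : W} (hl : cs.length w < cs.length (cs.simple i * w)) :
    Nat.card (RGD.Sup X (RGD.Inv cs h (cs.simple i * w))) = Nat.card (X (sr i)) * Nat.card (RGD.Sup X (RGD.Inv cs h w)) := by
  have hneg : rep cs h (cs.simple i * w)⁻¹ (sr i) ≤ 0 := by
    refine nonpos_of_lt cs h (cs.simple i * w)⁻¹ i ?_
    rw [cs.length_inv, ← cs.length_inv ((cs.simple i * w)⁻¹ * cs.simple i), mul_inv_rev, inv_inv, cs.inv_simple,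
      cs.simple_mul_simple_cancel_left]
    exact hl
  have hmem : sr i ∈ RGD.Inv cs h (cs.simple i * w) := (RGD.mem_inv_iff hneg).2 (Or.inl rfl)
  have hsw : cs.simple i * (cs.simple i * w) = w := cs.simple_mul_simple_cancel_left i
  have hsup : RGD.Sup X (RGD.Inv cs h (cs.simple i * w)) =
      X (sr i) ⊔ RGD.Sup X (RGD.Inv cs h (cs.simple i * w) \ {sr i}) := by
    apply le_antisymm
    · refine RGD.Sup_le fun z hz => ?_
      by_cases hz0 : z = sr i
      · subst hz0; exact le_sup_left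
      · exact le_trans (RGD.le_Sup (S := RGD.Inv cs h (cs.simple i * w) \ {sr i}) ⟨hz, hz0⟩) le_sup_right
    · exact sup_le (RGD.le_Sup hmem) (RGD.Sup_mono Set.sdiff_subset)
  have heq : RGD.Sup X (RGD.Inv cs h (cs.simple i * w) \ {sr i}) = cj (n i) (RGD.Sup X (RGD.Inv cs h w)) := by
    apply le_antisymm
    · refine RGD.Sup_le ?_
      rintro z ⟨hz, hz0⟩
      have h2 := ((RGD.mem_inv_iff hneg).1 hz).resolve_left hz0
      rw [hsw] at h2
      have h3 := cj_mono (n i) (RGD.le_Sup (X := X) h2)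
      rw [R.conj i _ h2.1, ← rep_mul_apply, cs.simple_mul_simple_self, map_one, Module.End.one_apply] at h3
      exact h3
    · rw [RGD.cj_Sup]
      refine iSup_le ?_
      rintro ⟨y, hy⟩
      rw [R.conj i y hy.1]
      refine RGD.le_Sup ⟨(RGD.mem_inv_iff hneg).2 (Or.inr ?_), ?_⟩
      · rw [hsw, ← rep_mul_apply, cs.simple_mul_simple_self, map_one, Module.End.one_apply]
        exact hy
      · intro he
        have he' : rep cs h (cs.simple i) y = sr i := he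
        have h1 := congrArg (rep cs h (cs.simple i)) he'
        rw [← rep_mul_apply, cs.simple_mul_simple_self, map_one, Module.End.one_apply, rep_simple_sr] at h1
        have h2 := hy.2.1
        rw [h1] at h2
        exact (isRoot_sr cs h i).neg.not_pos_neg h2 (neg_nonpos.2 (sr_nonneg i))
  have hnorm : X (sr i) ≤ Subgroup.normalizer (RGD.Sup X (RGD.Inv cs h (cs.simple i * w) \ {sr i}) : Set Y) := by
    refine R.X_le_normalizer_diff (fun x hx => ⟨hx.1, hx.2.1⟩) (isRoot_sr cs h i) (sr_nonneg i) ?_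
    intro y hy hyi z hz
    refine ⟨⟨hz.1, RGD.nonneg_of_btwn (sr_nonneg i) hy.2.1 hz,
      RGD.nonpos_of_btwn hneg hy.2.2 (hz.act (cs.simple i * w)⁻¹)⟩, ?_⟩
    exact RGD.ne_sr_of_btwn (sr_nonneg i) hy.1 hy.2.1 hyi hz
  rw [hsup, card_sup_mul hnorm, heq]
  · congr 1
    exact Subgroup.card_map_of_injective (MulAut.conj (n i)).injective
  · intro x hx hx2
    refine ParSys.Fam.X_inf_V R i x hx (RGD.Sup_mono (S := RGD.Inv cs h (cs.simple i * w) \ {sr i})
      (S' := RGD.PosNe cs h i) ?_ hx2)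
    rintro z ⟨hz, hz0⟩
    exact ⟨hz.1, hz.2.1, hz0⟩

/-- **the order along a reduced word** -/
theorem card_word {F : List I} (hF : cs.IsReduced F) :
    Nat.card (RGD.Sup X (RGD.Inv cs h (cs.wordProd F))) = (F.map fun i => Nat.card (X (sr i))).prod := by
  induction F with
  | nil =>
    rw [cs.wordProd_nil, RGD.inv_one_eq, List.map_nil, List.prod_nil]
    have : RGD.Sup X (∅ : Set (I → ℤ)) = ⊥ := by
      rw [eq_bot_iff]
      exact RGD.Sup_le (fun z hz => absurd hz (by simp))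
    rw [this, Subgroup.card_bot]
  | cons i F ih =>
    have hF' : cs.IsReduced F := by
      have := hF.drop 1
      simpa using this
    have hl : cs.length (cs.wordProd F) < cs.length (cs.simple i * cs.wordProd F) := by
      rw [← cs.wordProd_cons, hF.eq, hF'.eq]; simp
    rw [cs.wordProd_cons, card_step R hl, ih hF', List.map_cons, List.prod_cons]

variable {Rt : Finset (I → ℤ)} (hR : PosRoots A Rt) {wt : (I → ℤ) → ℕ}
  (hwt : ∀ i, ∀ v ∈ Rt, v ≠ Pi.single i 1 → wt (refl A i v) = wt v)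
  (hq : ∀ i, Nat.card (X (sr i)) = wt (Pi.single i 1))

include hR hwt hq

theorem card_inv (w : W) : Nat.card (RGD.Sup X (RGD.Inv cs h w)) = ∏ v ∈ PosRoots.invs h cs Rt w⁻¹, wt v := by
  obtain ⟨F, hF, rfl⟩ := cs.exists_isReduced w
  have hF' : cs.IsReduced F.reverse := (cs.isReduced_reverse_iff F).2 hF
  have h1 := hR.prod_word h cs wt hwt F.reverse hF'
  rw [cs.wordProd_reverse] at h1
  rw [card_word R hF, ← h1, List.map_reverse, List.prod_reverse]
  congr 1
  exact List.map_congr_left fun i _ => hq i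

/-- **`|U|`** -/
theorem card_U : Nat.card (RGD.Sup X (RGD.Pos cs h)) = ∏ v ∈ Rt, wt v := by
  have h1 : RGD.Inv cs h (w0 cs)⁻¹ = RGD.Pos cs h := by
    ext x
    constructor
    · intro hx; exact ⟨hx.1, hx.2.1⟩
    · intro hx
      refine ⟨hx.1, hx.2, ?_⟩
      rw [inv_inv]
      exact rep_w0_nonpos hx.1 hx.2
  rw [← h1, card_inv R hR hwt hq, inv_inv, hR.invs_of_max h cs]
  intro i
  have := Tits.Exchange.length_w0_mul cs (cs.simple i)
  rw [cs.length_simple] at this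
  omega

/-- **`|V_J|`** -/
theorem card_VJ (J : Set I) [DecidablePred fun v : I → ℤ => ∃ k, k ∉ J ∧ 0 < v k] : Nat.card (VJ cs h X J) = ∏ v ∈ Rt.filter (fun v => ∃ k, k ∉ J ∧ 0 < v k), wt v := by
  have hL : IsLongest cs J (wJ cs J) := isLongest_wJ cs J
  have hmax : PosRoots.invs h cs Rt (w0 cs) = Rt := by
    refine hR.invs_of_max h cs fun i => ?_
    have := Tits.Exchange.length_w0_mul cs (cs.simple i)
    rw [cs.length_simple] at this
    omega
  have h0 : ∀ v ∈ Rt, rep cs h (w0 cs) v ∉ Rt := fun v hv => by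
    have h1 : v ∈ PosRoots.invs h cs Rt (w0 cs) := by rw [hmax]; exact hv
    exact ((PosRoots.mem_invs h cs).1 h1).2
  have h1 : RGD.Inv cs h (w0 cs * wJ cs J)⁻¹ = NotJ cs h J := by
    ext x
    constructor
    · rintro ⟨hx, hx0, h1⟩
      rw [inv_inv, rep_mul_apply] at h1
      rcases mem_PosJ_or_NotJ J hx hx0 with h2 | h2
      · exfalso
        have h3 := rep_longest_nonpos hL h2
        have h4 := rep_w0_nonneg (hx.act _) h3
        exact ((hx.act _).act _).not_pos_neg h4 h1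
      · exact h2
    · intro hx
      refine ⟨hx.1, hx.2.1, ?_⟩
      rw [inv_inv, rep_mul_apply]
      have h2 := NotJ.act hL.1 hx
      exact rep_w0_nonpos h2.1 h2.2.1
  have h2 : PosRoots.invs h cs Rt (w0 cs * wJ cs J) = Rt.filter (fun v => ∃ k, k ∉ J ∧ 0 < v k) := by
    ext v
    rw [PosRoots.mem_invs, Finset.mem_filter]
    constructor
    · rintro ⟨hv, h3⟩
      refine ⟨hv, ?_⟩
      by_contra hcon
      push Not at hcon
      apply h3
      have hz : ∀ k, k ∉ J → v k = 0 := fun k hk => le_antisymm (hcon k hk) (hR.pos v hv k)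
      have h4 : rep cs h (wJ cs J) v ≤ 0 := by
        have h5 : ∀ j ∈ J, rep cs h (wJ cs J) (sr j) ≤ 0 := by
          intro j hj
          refine nonpos_of_lt cs h (wJ cs J) j ?_
          have h2 := (hL.2 _ (simple_mem_WJ cs hj)).1
          rw [cs.length_simple] at h2
          omega
        have h6 : v = ∑ k, v k • sr k := by
          funext k
          rw [Finset.sum_apply, Finset.sum_eq_single k (fun b _ hb => by
            rw [Pi.smul_apply, sr_ne hb.symm, smul_zero]) (by simp), Pi.smul_apply, sr_self, smul_eq_mul, mul_one]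
        rw [h6, map_sum]
        refine Finset.sum_nonpos fun k _ => ?_
        rw [map_smul]
        by_cases hk : k ∈ J
        · exact smul_nonpos_of_nonneg_of_nonpos (hR.pos v hv k) (h5 k hk)
        · rw [hz k hk, zero_smul]
      have h5 : -(rep cs h (wJ cs J) v) ∈ Rt := by
        rcases hR.rep_mem h cs (wJ cs J) v hv with h6 | h6
        · exfalso
          have h7 : rep cs h (wJ cs J) v = 0 := le_antisymm h4 (hR.pos _ h6)
          exact hR.ne (h7 ▸ h6)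
        · exact h6
      have h6 := (hR.rep_mem h cs (w0 cs) _ h5).resolve_left (h0 _ h5)
      rw [map_neg, neg_neg, ← rep_mul_apply] at h6
      exact h6
    · rintro ⟨hv, k, hk, hk0⟩
      refine ⟨hv, ?_⟩
      rw [rep_mul_apply]
      apply h0
      have h3 : rep cs h (wJ cs J) v k = v k := rep_apply_of_mem cs h hL.1 v hk
      rcases hR.rep_mem h cs (wJ cs J) v hv with h6 | h6
      · exact h6
      · exfalso
        have h7 : (0 : ℤ) ≤ -(rep cs h (wJ cs J) v k) := hR.pos _ h6 k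
        rw [h3] at h7
        omega
  unfold VJ
  rw [← h1, card_inv R hR hwt hq, inv_inv, h2]

/-- **`|V_J|`, `J = I ∖ {i}`** -/
theorem card_VJ_single (i : I) : Nat.card (VJ cs h X {i}ᶜ) = ∏ v ∈ Rt.filter (fun v => 0 < v i), wt v := by
  have e : ∀ v : I → ℤ, (∃ k, k ∉ ({i}ᶜ : Set I) ∧ 0 < v k) ↔ 0 < v i := by
    intro v
    constructor
    · rintro ⟨k, hk, h0⟩
      rw [Set.mem_compl_iff, not_not, Set.mem_singleton_iff] at hk
      rw [← hk]; exact h0
    · intro h0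
      exact ⟨i, by simp, h0⟩
  letI : DecidablePred (fun v : I → ℤ => ∃ k, k ∉ ({i}ᶜ : Set I) ∧ 0 < v k) := fun v => decidable_of_iff _ (e v).symm
  rw [card_VJ R hR hwt hq ({i}ᶜ : Set I)]
  refine Finset.prod_congr (Finset.filter_congr fun v _ => e v) fun _ _ => rfl

end

end Cfsg.Agent.Omega.EH3Close.CountU

end

section


/-!
# The module facts for the local quadratic bound (helper805)

`R : RGD cs h 2 T n X` on `Y`, `ρ : Y → GL(V)`, `V` over `F₂`, `C_V(U) = {0, a}`, the minimal parabolics of the nodes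
`j ≠ i` fix `a`, `n i` moves `a`, `|X_i| = 2`.

* `star` : `x (g n_i a) = g n_i a + a` for `1 ≠ x ∈ X (u α_i)`, `g` over `u ∈ W_{I - i}`;
* `kill` : `θ = u' α_i`, `β = u α_i` orthogonal, `u ∈ W_{J - i}`, `i ∈ J`, `z₀ ∈ X θ`, `x ∈ X β` nontrivial, `y ∈ V_J`:
  `(x y - 1) (z₀ - 1) ≠ 0` on `V`.
-/

set_option autoImplicit false
set_option linter.unusedSectionVars false

namespace Cfsg.Agent.Omega.EH3Close.Star

open CoxeterSystem Cfsg.Agent.ChevalleyStructure.CoxeterGeom Cfsg.Agent.Tits.Roots Cfsg.Agent.Tits.Core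
  Cfsg.Agent.Tits.RootComb Cfsg.Agent.Nodes.Comb Cfsg.Agent.Nodes.Reps Cfsg.Agent.Nodes.BNOf
  Cfsg.Agent.Nodes.StabComb Cfsg.Agent.Nodes.Bruhat Cfsg.Agent.Nodes.LeviDec Cfsg.Agent.Nodes.NormalForm
  Cfsg.Agent.ParSys

variable {I W Y V : Type*} [Fintype I] [DecidableEq I] [Group W] [Group Y] [AddCommGroup V] [Module (ZMod 2) V]
  {M : CoxeterMatrix I} {cs : CoxeterSystem M W} {A : I → I → ℤ} {h : IsCartan M A} {T : Subgroup Y} {n : I → Y}
  {X : (I → ℤ) → Subgroup Y}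

/-- the module -/
structure Mod (cs : CoxeterSystem M W) (h : IsCartan M A) (T : Subgroup Y) (n : I → Y) (X : (I → ℤ) → Subgroup Y)
    (ρ : Y →* (V ≃ₗ[ZMod 2] V)) (a : V) (i : I) : Prop where
  rgd : RGD cs h 2 T n X
  ne : a ≠ 0
  fixB : ∀ g ∈ RGD.B cs h T X, ρ g a = a
  fixn : ∀ j, j ≠ i → ρ (n j) a = a
  two : Nat.card (X (sr i)) = 2
  move : ρ (n i) a ≠ a
  cen : ∀ v, (∀ g ∈ RGD.Sup X (RGD.Pos cs h), ρ g v = v) → v = 0 ∨ v = a

theorem add_self' (v : V) : v + v = 0 := by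
  have h1 := add_smul (1 : ZMod 2) 1 v
  rw [one_smul, show (1 : ZMod 2) + 1 = 0 from by decide, zero_smul] at h1
  exact h1.symm

theorem rmul (ρ : Y →* (V ≃ₗ[ZMod 2] V)) (g k : Y) (v : V) : ρ (g * k) v = ρ g (ρ k v) := by rw [map_mul]; rfl

theorem rone (ρ : Y →* (V ≃ₗ[ZMod 2] V)) (v : V) : ρ 1 v = v := by rw [map_one]; rfl

theorem rinv (ρ : Y →* (V ≃ₗ[ZMod 2] V)) {g : Y} {v u : V} (h : ρ g v = u) : ρ g⁻¹ u = v := by
  rw [← h, ← rmul, inv_mul_cancel, rone]

namespace Mod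

variable {ρ : Y →* (V ≃ₗ[ZMod 2] V)} {a : V} {i : I} (D : Mod cs h T n X ρ a i)

include D

theorem fixU {g : Y} (hg : g ∈ RGD.Sup X (RGD.Pos cs h)) : ρ g a = a := D.fixB g (RGD.U_le_B hg)

theorem fixT {t : Y} (ht : t ∈ T) : ρ t a = a := D.fixB t (RGD.T_le_B ht)

theorem fix_rp {w : W} (hw : w ∈ WJ cs {i}ᶜ) : ∀ g, Rp cs D.rgd.nsys w g → ρ g a = a := by
  induction hw using Subgroup.closure_induction with
  | mem y hy =>
    obtain ⟨j, hj, rfl⟩ := hy
    intro g hg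
    have h1 := D.fixT ((rp_simple cs D.rgd.nsys j).unique hg)
    have e : g = n j * ((n j)⁻¹ * g) := by group
    rw [e, rmul, h1]
    exact D.fixn j hj
  | one =>
    intro g hg
    have h1 := D.fixT ((rp_one (cs := cs) (hN := D.rgd.nsys)).unique hg)
    rwa [inv_one, one_mul] at h1
  | mul x y _ _ ihx ihy =>
    intro g hg
    obtain ⟨k, hk⟩ := exists_rp cs D.rgd.nsys x
    obtain ⟨l, hl⟩ := exists_rp cs D.rgd.nsys y
    have h1 := D.fixT ((hk.mul hl).unique hg)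
    have e : g = k * l * ((k * l)⁻¹ * g) := by group
    rw [e, rmul, h1, rmul, ihy l hl, ihx k hk]
  | inv x _ ih =>
    intro g hg
    have h1 := ih g⁻¹ (by have := hg.inv; rwa [inv_inv] at this)
    have := rinv ρ h1
    rwa [inv_inv] at this

/-- `X_i = {1, x}` -/
theorem eq_of_two {x y : Y} (hx : x ∈ X (sr i)) (hx1 : x ≠ 1) (hy : y ∈ X (sr i)) : y = 1 ∨ y = x := by
  have h2 := D.two
  classical
  by_contra hcon
  push Not at hcon
  have : Finite (X (sr i)) := Nat.finite_of_card_ne_zero (by rw [h2]; norm_num)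
  have h3 : ({⟨1, one_mem _⟩, ⟨x, hx⟩, ⟨y, hy⟩} : Finset (X (sr i))).card = 3 := by
    rw [Finset.card_eq_three]
    refine ⟨_, _, _, ?_, ?_, ?_, rfl⟩
    · intro e; exact hx1 (congrArg Subtype.val e).symm
    · intro e; exact hcon.1 (congrArg Subtype.val e).symm
    · intro e; exact hcon.2 (congrArg Subtype.val e).symm
  have : Fintype (X (sr i)) := Fintype.ofFinite _
  have h4 := Finset.card_le_univ ({⟨1, one_mem _⟩, ⟨x, hx⟩, ⟨y, hy⟩} : Finset (X (sr i)))
  rw [← Nat.card_eq_fintype_card, h2, h3] at h4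
  omega

theorem sq_eq {x : Y} (hx : x ∈ X (sr i)) : x * x = 1 := by
  have h2 := D.two
  have h3 : (⟨x, hx⟩ : X (sr i)) ^ Nat.card (X (sr i)) = 1 := pow_card_eq_one'
  rw [h2, pow_two] at h3
  exact congrArg Subtype.val h3

variable [Finite W]

/-- `x n_i a = n_i a + a` -/
theorem star_simple {x : Y} (hx : x ∈ X (sr i)) (hx1 : x ≠ 1) : ρ x (ρ (n i) a) = ρ (n i) a + a := by
  have R := D.rgd
  set b := ρ (n i) a with hb
  set c := ρ x b with hc
  have hxU : x ∈ RGD.Sup X (RGD.Pos cs h) :=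
    RGD.le_Sup (S := RGD.Pos cs h) ⟨isRoot_sr cs h i, sr_nonneg i⟩ hx
  -- `V_i` fixes `b`, `c`
  have hVb : ∀ v ∈ RGD.Sup X (RGD.PosNe cs h i), ρ v b = b := by
    intro v hv
    have h1 := D.fixB _ (Fam.V_conj_mem_B R i hv)
    rw [hb, ← rmul, show v * n i = n i * ((n i)⁻¹ * v * n i) by group, rmul, h1]
  have hVc : ∀ v ∈ RGD.Sup X (RGD.PosNe cs h i), ρ v c = c := by
    intro v hv
    have h1 := R.X_le_normalizer_V i (inv_mem hx)
    have h2 := (Subgroup.mem_normalizer_iff.1 h1 v).1 hv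
    rw [inv_inv] at h2
    rw [hc, ← rmul, show v * x = x * (x⁻¹ * v * x) by group, rmul, hVb _ h2]
  have hVa : ∀ v ∈ RGD.Sup X (RGD.PosNe cs h i), ρ v a = a := fun v hv =>
    D.fixU (RGD.Sup_mono (S := RGD.PosNe cs h i) (S' := RGD.Pos cs h) (fun z hz => ⟨hz.1, hz.2.1⟩) hv)
  have hxc : ρ x c = b := by rw [hc, ← rmul, D.sq_eq hx, rone]
  -- a vector fixed by `V_i` and `x` is `0` or `a`
  have key : ∀ u, (∀ v ∈ RGD.Sup X (RGD.PosNe cs h i), ρ v u = u) → ρ x u = u → u = 0 ∨ u = a := by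
    intro u h1 h2
    refine D.cen u fun g hg => ?_
    obtain ⟨v, hv, y, hy, e⟩ := Fam.exists_V_mul R i hg
    rw [e, rmul]
    rcases D.eq_of_two hx hx1 hy with rfl | rfl
    · rw [rone]; exact h1 v hv
    · rw [h2]; exact h1 v hv
  have h1 := key (a + b + c) (fun v hv => by rw [map_add, map_add, hVa v hv, hVb v hv, hVc v hv]) (by
    rw [map_add, map_add, D.fixU hxU, hxc, ← hc]; abel)
  rcases h1 with h1 | h1
  · have h2 : c = b + a := by
      have h3 : c = c + (a + b + c) := by rw [h1, add_zero]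
      have h4 : c + (a + b + c) = (c + c) + (b + a) := by abel
      rw [h3, h4, add_self', zero_add]
    exact h2
  · exfalso
    have h2 : b = c := by
      have h3 : b + c = 0 := by
        have h4 : a + b + c = a + (b + c) := by abel
        rw [h4] at h1
        exact (add_eq_left.1 h1)
      have h4 : b = b + (b + c) := by rw [h3, add_zero]
      rw [h4, ← add_assoc, add_self', zero_add]
    rcases key b hVb (by rw [← hc, ← h2]) with h3 | h3
    · apply D.ne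
      have h4 := rinv ρ (hb.symm.trans h3)
      rw [map_zero] at h4
      exact h4.symm
    · exact D.move h3

/-- `x (g n_i a) = g n_i a + a`, `1 ≠ x ∈ X (u α_i)`, `g` over `u ∈ W_{I - i}` -/
theorem star {u : W} (hu : u ∈ WJ cs {i}ᶜ) {g : Y} (hg : Rp cs D.rgd.nsys u g) {x : Y}
    (hx : x ∈ X (rep cs h u (sr i))) (hx1 : x ≠ 1) : ρ x (ρ (g * n i) a) = ρ (g * n i) a + a := by
  have h1 := D.rgd.conj_mem' hg ((isRoot_sr cs h i).act u) hx
  rw [rep_inv_apply] at h1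
  have h2 : g⁻¹ * x * g ≠ 1 := by
    intro h3
    apply hx1
    have : x = g * (g⁻¹ * x * g) * g⁻¹ := by group
    rw [this, h3]; group
  have h3 := D.star_simple h1 h2
  have h4 := D.fix_rp hu g hg
  calc ρ x (ρ (g * n i) a) = ρ g (ρ (g⁻¹ * x * g) (ρ (n i) a)) := by
        rw [← rmul, ← rmul, ← rmul]
        congr 2
        group
    _ = ρ (g * n i) a + a := by rw [h3, map_add, ← rmul, h4]

/-- **The kill.** -/
theorem kill {J : Set I} (hi : i ∈ J) {u u' : W} (hu : u ∈ WJ cs (J \ {i})) (hu' : u' ∈ WJ cs {i}ᶜ)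
    (ho : rep cs h (u * cs.simple i * u⁻¹) (rep cs h u' (sr i)) = rep cs h u' (sr i)) {z x y : Y}
    (hz : z ∈ X (rep cs h u' (sr i))) (hz1 : z ≠ 1) (hx : x ∈ X (rep cs h u (sr i))) (hx1 : x ≠ 1)
    (hy : y ∈ VJ cs h X J) : ∃ v, ρ (x * y) (ρ z v + v) ≠ ρ z v + v := by
  have R := D.rgd
  obtain ⟨g, hg⟩ := exists_rp cs R.nsys u
  obtain ⟨g', hg'⟩ := exists_rp cs R.nsys u'
  have huc : u ∈ WJ cs {i}ᶜ := by
    have h1 : J \ {i} ⊆ ({i} : Set I)ᶜ := fun j hj => hj.2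
    exact Subgroup.closure_mono (Set.image_mono h1) hu
  have huJ : u ∈ WJ cs J := by
    have h1 : J \ {i} ⊆ J := fun j hj => hj.1
    exact Subgroup.closure_mono (Set.image_mono h1) hu
  have hk : Rp cs R.nsys (u * cs.simple i * u⁻¹) (g * n i * g⁻¹) := (hg.mul (rp_simple cs R.nsys i)).mul hg.inv
  have hkJ : g * n i * g⁻¹ ∈ LJ cs h T X J :=
    rp_mem_LJ R (mul_mem (mul_mem huJ (Cfsg.Agent.Tits.Exchange.simple_mem_WJ cs hi)) (inv_mem huJ)) hk
  set k := g * n i * g⁻¹ with hkdef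
  -- `t = k a`
  have ht : ρ k a = ρ (g * n i) a := by
    have h1 := rinv ρ (D.fix_rp huc g hg)
    rw [hkdef, rmul, h1]
  set t := ρ (g * n i) a with htdef
  have hxt : ρ x t = t + a := D.star huc hg hx hx1
  have hyt : ρ y t = t := by
    have h1 := Subgroup.mem_normalizer_iff.1 (inv_mem (LJ_le_normalizer_VJ R J hkJ)) y
    have h2 := h1.1 hy
    rw [inv_inv] at h2
    have h3 := D.fixU (VJ_le_U J h2)
    rw [← ht, ← rmul, show y * k = k * (k⁻¹ * y * k) by group, rmul, h3]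
  refine ⟨ρ k (ρ (g' * n i) a), ?_⟩
  have hz2 := R.conj_mem' hk ((isRoot_sr cs h i).act u') hz
  have ho' : rep cs h (u * cs.simple i * u⁻¹)⁻¹ (rep cs h u' (sr i)) = rep cs h u' (sr i) := by
    nth_rewrite 1 [← ho]
    rw [rep_inv_apply]
  rw [ho'] at hz2
  have hz3 : k⁻¹ * z * k ≠ 1 := by
    intro h3
    apply hz1
    have : z = k * (k⁻¹ * z * k) * k⁻¹ := by group
    rw [this, h3]; group
  have h4 := D.star hu' hg' hz2 hz3
  have h5 : ρ z (ρ k (ρ (g' * n i) a)) = ρ k (ρ (g' * n i) a) + t := by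
    rw [← rmul, show z * k = k * (k⁻¹ * z * k) by group, rmul, h4, map_add, ht]
  have h6 : ρ z (ρ k (ρ (g' * n i) a)) + ρ k (ρ (g' * n i) a) = t := by
    rw [h5, add_assoc, add_comm t, ← add_assoc, add_self', zero_add]
  rw [h6, rmul, hyt, hxt]
  intro h7
  exact D.ne (add_eq_left.1 h7)

end Mod

end Cfsg.Agent.Omega.EH3Close.Star

end

section


/-!
# (F1) over root group data

`fone_of_comm`: if the root groups of the non-simple positive roots are in the commutator subgroup of `U`, then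
(F1) (`ParSys.FOne`) holds for the (B,N)-pair of a root group datum of rank two, characteristic 2.
-/

set_option autoImplicit false
set_option linter.unusedSectionVars false

namespace Cfsg.Agent.ParSys.Fam

open CoxeterSystem Cfsg.Agent.ChevalleyStructure.CoxeterGeom Cfsg.Agent.Tits.Roots Cfsg.Agent.Tits.Core
  Cfsg.Agent.Tits.RootComb Cfsg.Agent.Nodes.Comb Cfsg.Agent.Nodes.Reps Cfsg.Agent.Nodes.BNOf
open Cfsg.Agent.Nodes.BNOf.RGD
open scoped commutatorElement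

/-- the Frattini argument for a 2-subgroup `U` -/
theorem le_of_cover {Y : Type*} [Group Y] [Finite Y] {U S : Subgroup Y} (hU : IsPGroup 2 U) (hS : S ≤ U)
    (h : ∀ u ∈ U, ∃ x ∈ S, x⁻¹ * u ∈ ⁅U, U⁆) : U ≤ S := by
  have h1 : S.subgroupOf U ⊔ commutator ↥U = ⊤ := by
    rw [eq_top_iff]
    rintro ⟨u, hu⟩ -
    obtain ⟨x, hx, hxu⟩ := h u hu
    have h2 : (⟨x, hS hx⟩ : ↥U)⁻¹ * ⟨u, hu⟩ ∈ commutator ↥U := by
      have h3 : (commutator ↥U).map U.subtype = ⁅U, U⁆ := by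
        rw [commutator_def, Subgroup.map_commutator, ← MonoidHom.range_eq_map, Subgroup.range_subtype]
      rw [← h3] at hxu
      obtain ⟨y, hy, e⟩ := hxu
      have e2 : y = (⟨x, hS hx⟩ : ↥U)⁻¹ * ⟨u, hu⟩ := Subtype.ext e
      rwa [← e2]
    have h4 : (⟨u, hu⟩ : ↥U) = ⟨x, hS hx⟩ * ((⟨x, hS hx⟩ : ↥U)⁻¹ * ⟨u, hu⟩) := by group
    rw [h4]
    exact mul_mem (Subgroup.mem_sup_left (Subgroup.mem_subgroupOf.2 hx)) (Subgroup.mem_sup_right h2)
  have h2 := MinSimple.SelfCentFour.eq_top_of_sup hU h1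
  exact Subgroup.subgroupOf_eq_top.1 h2

variable {I W Y : Type*} [Fintype I] [DecidableEq I] [Group W] [Finite W] [Group Y] [Finite Y] {M : CoxeterMatrix I}
  {cs : CoxeterSystem M W} {A : I → I → ℤ} {h : IsCartan M A} {p : ℕ} {T : Subgroup Y} {n : I → Y}
  {X : (I → ℤ) → Subgroup Y}

/-- the non-simple positive roots -/
def PosNS (cs : CoxeterSystem M W) (h : IsCartan M A) : Set (I → ℤ) := {x | IsRoot cs h x ∧ 0 ≤ x ∧ ∀ i, x ≠ sr i}

/-- the nodes stabilise `V_i` only -/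
theorem mem_V_of_stab (R : RGD cs h p T n X) (i : I) {u : Y} (hu : u ∈ Sup X (Pos cs h))
    (hus : (n i)⁻¹ * u * n i ∈ B cs h T X) : u ∈ Sup X (PosNe cs h i) := by
  have hVU : Sup X (PosNe cs h i) ≤ Sup X (Pos cs h) := Sup_mono fun z hz => ⟨hz.1, hz.2.1⟩
  have hconj_s : ∀ v ∈ Sup X (PosNe cs h i), (n i)⁻¹ * v * n i ∈ Sup X (PosNe cs h i) := fun v hv =>
    FixBN.NodeRGD.conj_V_mem R i hv
  rw [R.Upos_eq i, sup_comm] at hu
  have h1 : u ∈ ((Sup X (PosNe cs h i) ⊔ X (sr i) : Subgroup Y) : Set Y) := hu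
  rw [Subgroup.coe_mul_of_right_le_normalizer_left _ _ (R.X_le_normalizer_V i), Set.mem_mul] at h1
  obtain ⟨v, hv, x, hx, rfl⟩ := h1
  have h2 : (n i)⁻¹ * x * n i = ((n i)⁻¹ * v * n i)⁻¹ * ((n i)⁻¹ * (v * x) * n i) := by group
  have h3 : (n i)⁻¹ * x * n i ∈ B cs h T X := by
    rw [h2]
    exact mul_mem (inv_mem (U_le_B (hVU (hconj_s v hv)))) hus
  have h4 : (n i)⁻¹ * x * n i ∈ X (-sr i) := by
    have := R.conj_mem' (rp_simple cs R.nsys i) (isRoot_sr cs h i) hx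
    rwa [inv_simple, rep_simple_sr] at this
  have h5 : (n i)⁻¹ * x * n i = 1 := by
    by_contra hne
    exact FixBN.NodeRGD.not_mem_B_of_neg R i h4 hne h3
  have h6 : x = n i * ((n i)⁻¹ * x * n i) * (n i)⁻¹ := by group
  rw [h6, h5, mul_one, mul_inv_cancel, mul_one]
  exact hv

/-- the simple root groups meet `V_i` trivially -/
theorem eq_one_of_mem_V (R : RGD cs h p T n X) (i : I) {x : Y} (hx : x ∈ X (sr i)) (hV : x ∈ Sup X (PosNe cs h i)) :
    x = 1 := by
  have h1 := FixBN.NodeRGD.conj_V_mem R i hV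
  have hVU : Sup X (PosNe cs h i) ≤ Sup X (Pos cs h) := Sup_mono fun z hz => ⟨hz.1, hz.2.1⟩
  have h4 : (n i)⁻¹ * x * n i ∈ X (-sr i) := by
    have := R.conj_mem' (rp_simple cs R.nsys i) (isRoot_sr cs h i) hx
    rwa [inv_simple, rep_simple_sr] at this
  have h5 : (n i)⁻¹ * x * n i = 1 := by
    by_contra hne
    exact FixBN.NodeRGD.not_mem_B_of_neg R i h4 hne (U_le_B (hVU h1))
  have h6 : x = n i * ((n i)⁻¹ * x * n i) * (n i)⁻¹ := by group
  rw [h6, h5, mul_one, mul_inv_cancel]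

/-- `V_i ∩ V_j` is generated by the root groups of the non-simple positive roots (rank two). -/
theorem inf_V (R : RGD cs h p T n X) {i j : I} (hij : i ≠ j) (hI : ∀ k, k = i ∨ k = j) {x : Y}
    (hi : x ∈ Sup X (PosNe cs h i)) (hj : x ∈ Sup X (PosNe cs h j)) : x ∈ Sup X (PosNS cs h) := by
  have e : Sup X (PosNe cs h i) ≤ Sup X (PosNS cs h) ⊔ X (sr j) := Sup_le fun z hz => by
    by_cases hz0 : z = sr j
    · rw [hz0]; exact le_sup_right
    · refine le_trans (le_Sup (S := PosNS cs h) ⟨hz.1, hz.2.1, fun k => ?_⟩) le_sup_left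
      rcases hI k with rfl | rfl
      · exact hz.2.2
      · exact hz0
  have hN : X (sr j) ≤ Subgroup.normalizer (Sup X (PosNS cs h) : Set Y) := by
    refine R.le_normalizer (isRoot_sr cs h j) ?_
    rintro y ⟨hy, hy0, hyi⟩
    refine ⟨hy, Or.inr ⟨?_, ?_⟩⟩
    · intro h1
      have h2 := congrFun h1 j
      rw [sr_self, Pi.neg_apply] at h2
      have h3 := hy0 j
      have h4 : (0 : ℤ) ≤ y j := h3
      omega
    · intro z hz
      refine ⟨hz.1, nonneg_of_btwn (sr_nonneg j) hy0 hz, fun k => ?_⟩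
      exact ne_sr_of_btwn (sr_nonneg j) hy hy0 (hyi k) hz
  have h1 : x ∈ ((Sup X (PosNS cs h) ⊔ X (sr j) : Subgroup Y) : Set Y) := e hi
  rw [Subgroup.coe_mul_of_right_le_normalizer_left _ _ hN, Set.mem_mul] at h1
  obtain ⟨v, hv, y, hy, rfl⟩ := h1
  have hvj : v ∈ Sup X (PosNe cs h j) := 
    (Sup_mono (X := X) (S := PosNS cs h) (S' := PosNe cs h j) fun z hz => ⟨hz.1, hz.2.1, hz.2.2 j⟩) hv
  have h2 : y ∈ Sup X (PosNe cs h j) := by
    have := mul_mem (inv_mem hvj) hj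
    rwa [inv_mul_cancel_left] at this
  rw [eq_one_of_mem_V R j hy h2, mul_one]
  exact hv

/-- **(F1) for a root group datum of rank two.** -/
theorem fone_of_comm (R : RGD cs h 2 T n X) (hgen : B cs h T X ⊔ NN cs R.nsys = ⊤) {i j : I} (hij : i ≠ j)
    (hI : ∀ k, k = i ∨ k = j)
    (hc : ∀ z ∈ PosNS cs h, X z ≤ ⁅Sup X (Pos cs h), Sup X (Pos cs h)⁆) :
    FOne (R.bnPair hgen) (Sup X (Pos cs h)) (n i) (n j) := by
  intro S hS hcov
  refine le_of_cover R.isPGroup_Upos hS fun u hu => ?_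
  obtain ⟨x, hx, h1, h2⟩ := hcov u hu
  refine ⟨x, hx, ?_⟩
  have h3 : x⁻¹ * u ∈ Sup X (Pos cs h) := mul_mem (inv_mem (hS hx)) hu
  exact (Sup_le hc) (inf_V R hij hI (mem_V_of_stab R i h3 h1) (mem_V_of_stab R j h3 h2))

end Cfsg.Agent.ParSys.Fam

end
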