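import Cfsg.Agent.Mrg.ParSys.Fam.TwoFFour
import Cfsg.Agent.ChevalleyStructure.D4H1
import Cfsg.Agent.Nodes.RGDTwNode
import Cfsg.Agent.Hexagon.TwD4Par
import Cfsg.Agent.S1071
import Cfsg.Agent.KFacts.TwESix.OutTwo
set_option linter.all false

section


/-!
# THEOREM PAR: the facts on `³D₄(q)`, `q ≥ 4` even
-/

set_option autoImplicit false
set_option linter.unusedSectionVars false

namespace Cfsg.Agent.ParSys.Fam.D4

open CoxeterSystem Cfsg.Agent.ChevalleyStructure.CoxeterGeom Cfsg.Agent.Tits.Roots Cfsg.Agent.Tits.Core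
  Cfsg.Agent.Tits.RootComb Cfsg.Agent.Nodes.Comb Cfsg.Agent.Nodes.Reps Cfsg.Agent.Nodes.BNOf
  Cfsg.Agent.Nodes.BNOf.RGD Cfsg.Agent.Nodes.RGDChev Cfsg.Agent.Nodes.RGDFold
open Cfsg.Lie Cfsg.Agent.ChevalleyStructure
open Cfsg.Agent.ChevalleyStructure.D4U (RS)
open Cfsg.Agent.SplitTwo (kk HexPar HexRel trc crs shp nrm)
open Cfsg.Agent.Hexagon
open scoped commutatorElement

universe u

/-- the Coxeter system -/
abbrev cs : CoxeterSystem CoxeterMatrix.G₂ CoxeterMatrix.G₂.Group := CoxeterMatrix.G₂.toCoxeterSystem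

theorem cls2 : ∀ k < chevD4.nroots, (V chevD4 Nodes.RGDTwD4.J k = V chevD4 Nodes.RGDTwD4.J 22 ↔ k ∈ [22]) := by
  decide +kernel
theorem cls3 : ∀ k < chevD4.nroots, (V chevD4 Nodes.RGDTwD4.J k = V chevD4 Nodes.RGDTwD4.J 17 ↔ k ∈ [20, 21, 17]) := by
  decide +kernel
theorem cls4 : ∀ k < chevD4.nroots, (V chevD4 Nodes.RGDTwD4.J k = V chevD4 Nodes.RGDTwD4.J 23 ↔ k ∈ [23]) := by
  decide +kernel
theorem cls5 : ∀ k < chevD4.nroots, (V chevD4 Nodes.RGDTwD4.J k = V chevD4 Nodes.RGDTwD4.J 19 ↔ k ∈ [19, 16, 15]) := by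
  decide +kernel

theorem pos_cases : ∀ k < chevD4.nroots, (∀ i : Fin 2, 0 ≤ V chevD4 Nodes.RGDTwD4.J k i) →
    V chevD4 Nodes.RGDTwD4.J k = sr 0 ∨ V chevD4 Nodes.RGDTwD4.J k = sr 1 ∨
    V chevD4 Nodes.RGDTwD4.J k = V chevD4 Nodes.RGDTwD4.J 22 ∨ V chevD4 Nodes.RGDTwD4.J k = V chevD4 Nodes.RGDTwD4.J 17 ∨
    V chevD4 Nodes.RGDTwD4.J k = V chevD4 Nodes.RGDTwD4.J 23 ∨ V chevD4 Nodes.RGDTwD4.J k = V chevD4 Nodes.RGDTwD4.J 19 := by
  decide +kernel

variable {K : Type u} [Field K] {q : ℕ} {φ : K →+* K}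

theorem mem_iff (hle : twistedD4 K q ≤ D4Fixed.fix φ) {z : Fin 2 → ℤ} {o : List ℕ} {k : ZMod (2 * 6)}
    (ho : ∀ k < chevD4.nroots, (V chevD4 Nodes.RGDTwD4.J k = z ↔ k ∈ o)) (ho' : ∀ k ∈ o, k < chevD4.nroots)
    (hL : TwD4RGD.L k = o) (g : ↥(twistedD4 K q)) : g ∈ Nodes.RGDTwD4.X φ q z ↔ g ∈ TwD4RGD.X K q k := by
  rw [Nodes.RGDTwD4.X, Subgroup.mem_subgroupOf, R_eq ho ho', Nodes.RGDTwD4.xG_eq, Nodes.RGDTwD4.fixS_eq, TwD4RGD.mem_X,
    hL]
  exact ⟨fun h => h.1, fun h => ⟨h, hle g.2⟩⟩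

/-! ### The commutator subgroup of `U` -/

theorem kk_mem {G : Type*} [Group G] {U : Subgroup G} {a b : G} (ha : a ∈ U) (hb : b ∈ U) : kk a b ∈ ⁅U, U⁆ := by
  have h := Subgroup.commutator_mem_commutator (inv_mem ha) (inv_mem hb)
  have e : ⁅a⁻¹, b⁻¹⁆ = kk a b := by rw [commutatorElement_def, inv_inv, inv_inv, kk]
  rwa [e] at h

theorem hex_comm {E : Type*} [Field E] [CharP E 2] {σ : E ≃+* E} (hne : ∃ d, σ d ≠ d) {G : Type*} [Group G]
    {x1 x2 x3 x4 x5 x6 : E → G} (R : HexRel σ x1 x2 x3 x4 x5 x6) {D : Subgroup G}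
    (h13 : ∀ a b, kk (x1 a) (x3 b) ∈ D) (h15 : ∀ a b, kk (x1 a) (x5 b) ∈ D)
    (h16 : ∀ a t, σ t = t → kk (x1 a) (x6 t) ∈ D) (h26 : ∀ t u, σ t = t → σ u = u → kk (x2 t) (x6 u) ∈ D) :
    (∀ t, σ t = t → x2 t ∈ D) ∧ (∀ a, x3 a ∈ D) ∧ (∀ t, σ t = t → x4 t ∈ D) ∧ ∀ a, x5 a ∈ D := by
  have e2 : (2 : E) = 0 := by exact_mod_cast CharP.cast_eq_zero E 2
  have hc := R.cube
  have ft : ∀ a b : E, σ (trc σ a b) = trc σ a b := fun a b => by
    simp only [trc, map_add, hc]; ring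
  have fn : ∀ a : E, σ (nrm σ a) = nrm σ a := fun a => by
    simp only [nrm, map_mul, hc]; ring
  have m2 : ∀ t, σ t = t → x2 t ∈ D := by
    intro t ht
    have h1 := h13 1 t
    have e : trc σ 1 t = t := by
      simp only [trc, one_mul, ht]
      linear_combination t * e2
    rw [R.c13, e] at h1
    exact h1
  have m4 : ∀ t, σ t = t → x4 t ∈ D := by
    intro t ht
    have h1 := h26 t 1 ht (map_one σ)
    rw [R.c26 t 1 ht (map_one σ), mul_one] at h1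
    exact h1
  have m3' : ∀ a b, x3 (crs σ a b) ∈ D := by
    intro a b
    have h1 := h15 a b
    rw [R.c15, mul_assoc] at h1
    have h2 := mul_mem (inv_mem (m2 (-(trc σ (shp σ a) b)) (by rw [map_neg, ft]))) h1
    rw [inv_mul_cancel_left] at h2
    have h3 := mul_mem h2 (inv_mem (m4 (trc σ a (shp σ b)) (ft _ _)))
    rwa [mul_inv_cancel_right] at h3
  have m3 : ∀ a, x3 a ∈ D := by
    intro y
    by_cases hy : y = 0
    · have h1 := R.add3 0 0
      rw [add_zero] at h1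
      have h2 : x3 0 = 1 := by
        have := h1
        nth_rewrite 1 [← mul_one (x3 0)] at this
        exact (mul_left_cancel this).symm
      rw [hy, h2]
      exact one_mem _
    · obtain ⟨d, hd⟩ := hne
      have hw : σ (σ d) + σ d ≠ 0 := by
        intro h0
        apply hd
        have h1 : σ (σ d) = σ d := by linear_combination h0 - σ d * e2
        exact σ.injective h1
      have hx : y / (σ (σ d) + σ d) ≠ 0 := div_ne_zero hy hw
      have h1 := m3' (y / (σ (σ d) + σ d))⁻¹ (σ (y / (σ (σ d) + σ d)) * σ (σ (y / (σ (σ d) + σ d))) * d)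
      have e : crs σ (y / (σ (σ d) + σ d))⁻¹ (σ (y / (σ (σ d) + σ d)) * σ (σ (y / (σ (σ d) + σ d))) * d) = y := by
        have h4 : y = y / (σ (σ d) + σ d) * (σ (σ d) + σ d) := (div_mul_cancel₀ y hw).symm
        generalize y / (σ (σ d) + σ d) = x at *
        have hx1 : σ x ≠ 0 := (map_ne_zero σ).2 hx
        have hx2 : σ (σ x) ≠ 0 := (map_ne_zero σ).2 hx1
        rw [h4]
        simp only [crs, map_mul, map_inv₀, hc]
        field_simp
      rwa [e] at h1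
  refine ⟨m2, m3, m4, fun y => ?_⟩
  have h1 := h16 (-y) 1 (map_one σ)
  rw [R.c16 _ _ (map_one σ), one_mul, one_mul, one_mul, neg_neg] at h1
  have h2 := mul_mem (inv_mem (mul_mem (mul_mem (m2 (-(nrm σ (-y))) (by rw [map_neg, fn])) (m3 (shp σ (-y))))
    (m4 (1 ^ 2 * nrm σ (-y)) (by rw [one_pow, one_mul, fn])))) h1
  rwa [inv_mul_cancel_left] at h2

/-- the unipotent group -/
noncomputable abbrev UU (φ : K →+* K) (q : ℕ) : Subgroup ↥(twistedD4 K q) :=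
  Sup (Nodes.RGDTwD4.X φ q) (Pos cs Nodes.RGDTwD4.isCartan)

theorem isRoot_iff' (z : Fin 2 → ℤ) : IsRoot cs Nodes.RGDTwD4.isCartan z ↔ ∃ r < chevD4.nroots, V chevD4 Nodes.RGDTwD4.J r = z :=
  Nodes.RGDTwD4.foldData.isRoot_iff Nodes.RGDTwD4.hp.checked (fun _ _ hr => wp_lt Nodes.RGDTwD4.hp _ hr) z

theorem X_le_UU {z : Fin 2 → ℤ} (hz : IsRoot cs Nodes.RGDTwD4.isCartan z) (h0 : 0 ≤ z) :
    Nodes.RGDTwD4.X φ q z ≤ UU φ q := le_Sup (S := Pos cs Nodes.RGDTwD4.isCartan) ⟨hz, h0⟩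

theorem L_eqs : TwD4RGD.L 1 = [18, 13, 12] ∧ TwD4RGD.L 2 = [22] ∧ TwD4RGD.L 3 = [20, 21, 17] ∧ TwD4RGD.L 4 = [23] ∧
    TwD4RGD.L 5 = [19, 16, 15] ∧ TwD4RGD.L 6 = [14] := by decide +kernel

section

variable (hφ : ∀ x, φ x = x ^ q) (hle : twistedD4 K q ≤ D4Fixed.fix φ)

theorem pos_V (k : ℕ) (hk : k < chevD4.nroots) (h : ∀ i : Fin 2, 0 ≤ V chevD4 Nodes.RGDTwD4.J k i) :
    Nodes.RGDTwD4.X φ q (V chevD4 Nodes.RGDTwD4.J k) ≤ UU φ q :=
  X_le_UU ((isRoot_iff' _).2 ⟨k, hk, rfl⟩) h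

include hle in
theorem hX [CharP K 2] {σ : K ≃+* K} (hφ : ∀ x, φ x = x ^ q) (hσ : ∀ x, σ x = φ x) (h3 : ∀ a, σ (σ (σ a)) = a)
    (hne : ∃ d, σ d ≠ d) (z : Fin 2 → ℤ) (hz : IsRoot cs Nodes.RGDTwD4.isCartan z) (h0 : 0 ≤ z) (hz1 : z ≠ sr 1)
    (hz0 : z ≠ sr 0) : Nodes.RGDTwD4.X φ q z ≤ ⁅UU φ q, UU φ q⁆ := by
  have H := TwD4Par.hexPar hφ hle hσ h3
  have R := H.rel
  have c2 := mem_iff (q := q) hle (k := 2) cls2 (by decide +kernel) L_eqs.2.1
  have c3 := mem_iff (q := q) hle (k := 3) cls3 (by decide +kernel) L_eqs.2.2.1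
  have c4 := mem_iff (q := q) hle (k := 4) cls4 (by decide +kernel) L_eqs.2.2.2.1
  have c5 := mem_iff (q := q) hle (k := 5) cls5 (by decide +kernel) L_eqs.2.2.2.2.1
  have c1 := mem_iff (q := q) hle (k := 1) Nodes.RGDTwD4.cls1 (by decide +kernel) L_eqs.1
  have c6 := mem_iff (q := q) hle (k := 6) Nodes.RGDTwD4.cls0 (by decide +kernel) L_eqs.2.2.2.2.2
  have u1 : ∀ a, TwD4Par.ev (TwD4Rel.X1 σ) a ∈ UU φ q := fun a =>
    X_le_UU (isRoot_sr cs Nodes.RGDTwD4.isCartan 1) (sr_nonneg 1) ((c1 _).2 ((H.mem1 _).2 ⟨a, rfl⟩))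
  have u2 : ∀ t, σ t = t → TwD4Par.ev TwD4Rel.X2 t ∈ UU φ q := fun t ht =>
    pos_V 22 (by decide +kernel) (by decide +kernel) ((c2 _).2 ((H.mem2 _).2 ⟨t, ht, rfl⟩))
  have u3 : ∀ a, TwD4Par.ev (TwD4Rel.X3 σ) a ∈ UU φ q := fun a =>
    pos_V 17 (by decide +kernel) (by decide +kernel) ((c3 _).2 ((H.mem3 _).2 ⟨a, rfl⟩))
  have u5 : ∀ a, TwD4Par.ev (TwD4Rel.X5 σ) a ∈ UU φ q := fun a =>
    pos_V 19 (by decide +kernel) (by decide +kernel) ((c5 _).2 ((H.mem5 _).2 ⟨a, rfl⟩))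
  have u6 : ∀ t, σ t = t → TwD4Par.ev TwD4Rel.X6 t ∈ UU φ q := fun t ht =>
    X_le_UU (isRoot_sr cs Nodes.RGDTwD4.isCartan 0) (sr_nonneg 0) ((c6 _).2 ((H.mem6 _).2 ⟨t, ht, rfl⟩))
  obtain ⟨m2, m3, m4, m5⟩ := hex_comm hne R (D := ⁅UU φ q, UU φ q⁆) (fun a b => kk_mem (u1 a) (u3 b))
    (fun a b => kk_mem (u1 a) (u5 b)) (fun a t ht => kk_mem (u1 a) (u6 t ht)) (fun t u ht hu => kk_mem (u2 t ht) (u6 u hu))
  obtain ⟨k, hk, rfl⟩ := (isRoot_iff' z).1 hz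
  intro g hg
  rcases pos_cases k hk h0 with e | e | e | e | e | e
  · exact absurd e hz0
  · exact absurd e hz1
  · rw [e, c2] at hg
    obtain ⟨t, ht, rfl⟩ := (H.mem2 g).1 hg
    exact m2 t ht
  · rw [e, c3] at hg
    obtain ⟨t, rfl⟩ := (H.mem3 g).1 hg
    exact m3 t
  · rw [e, c4] at hg
    obtain ⟨t, ht, rfl⟩ := (H.mem4 g).1 hg
    exact m4 t ht
  · rw [e, c5] at hg
    obtain ⟨t, rfl⟩ := (H.mem5 g).1 hg
    exact m5 t

end

/-! ### The torus -/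

/-- `g` acts on the root subgroup `s` as multiplication by `c` -/
def Sc (g : GL chevD4.Idx K) (s : ℕ) (c : K) : Prop :=
  ∀ t : K, g * Elts.xG Nodes.RGDTwD4.hp.inList s t * g⁻¹ = Elts.xG Nodes.RGDTwD4.hp.inList s (c * t)

theorem Sc.mul {g g' : GL chevD4.Idx K} {s : ℕ} {c c' : K} (h : Sc g s c) (h' : Sc g' s c') :
    Sc (g * g') s (c * c') := by
  intro t
  have e : g * g' * Elts.xG Nodes.RGDTwD4.hp.inList s t * (g * g')⁻¹ =
      g * (g' * Elts.xG Nodes.RGDTwD4.hp.inList s t * g'⁻¹) * g⁻¹ := by group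
  rw [e, h' t, h, mul_assoc]

theorem Sc.one (s : ℕ) : Sc (1 : GL chevD4.Idx K) s 1 := by
  intro t
  rw [one_mul, inv_one, mul_one, one_mul]

theorem sc_hG {j s : ℕ} (hj : j < chevD4.rank) (hs : s < chevD4.nroots) {c : K} (hc : c ≠ 0) :
    Sc (Elts.hG Nodes.RGDTwD4.hp.inList (chevD4.simple j) c) s (c ^ chevD4.cartan j s) := by
  intro t
  rw [mul_inv_eq_iff_eq_mul]
  apply Units.ext
  have h1 := Cfsg.Agent.S1032.result chevD4 Nodes.RGDTwD4.hp.inList j s hj hs c hc t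
  simpa only [Units.val_mul, Elts.coe_hG, Elts.coe_xG] using h1

theorem rank4 : chevD4.rank = 4 := by decide +kernel

theorem nroots24 : chevD4.nroots = 24 := by decide +kernel

theorem simples : chevD4.simple 0 = 18 ∧ chevD4.simple 1 = 14 ∧ chevD4.simple 2 = 13 ∧ chevD4.simple 3 = 12 := by
  decide +kernel

theorem carts :
    (chevD4.cartan 0 18 = 2 ∧ chevD4.cartan 1 18 = -1 ∧ chevD4.cartan 2 18 = 0 ∧ chevD4.cartan 3 18 = 0) ∧
    (chevD4.cartan 0 14 = -1 ∧ chevD4.cartan 1 14 = 2 ∧ chevD4.cartan 2 14 = -1 ∧ chevD4.cartan 3 14 = -1) ∧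
    (chevD4.cartan 0 13 = 0 ∧ chevD4.cartan 1 13 = -1 ∧ chevD4.cartan 2 13 = 2 ∧ chevD4.cartan 3 13 = 0) ∧
    (chevD4.cartan 0 12 = 0 ∧ chevD4.cartan 1 12 = -1 ∧ chevD4.cartan 2 12 = 0 ∧ chevD4.cartan 3 12 = 2) := by
  decide +kernel

/-- the long coroot -/
theorem sc14 {d : K} (hd : d ≠ 0) : Sc (Elts.hG Nodes.RGDTwD4.hp.inList 14 d) 14 (d * d) ∧
    ∀ s ∈ [18, 13, 12], Sc (Elts.hG Nodes.RGDTwD4.hp.inList 14 d) s d⁻¹ := by
  have h1 : ∀ s < 24, Sc (Elts.hG Nodes.RGDTwD4.hp.inList 14 d) s (d ^ chevD4.cartan 1 s) := by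
    intro s hs
    have := sc_hG (K := K) (j := 1) (s := s) (by rw [rank4]; norm_num) (by rw [nroots24]; exact hs) hd
    rwa [simples.2.1] at this
  refine ⟨?_, ?_⟩
  · have := h1 14 (by norm_num)
    rwa [carts.2.1.2.1, zpow_two] at this
  · intro s hs
    simp only [List.mem_cons, List.not_mem_nil, or_false] at hs
    rcases hs with rfl | rfl | rfl
    · have := h1 18 (by norm_num)
      rwa [carts.1.2.1, zpow_neg_one] at this
    · have := h1 13 (by norm_num)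
      rwa [carts.2.2.1.2.1, zpow_neg_one] at this
    · have := h1 12 (by norm_num)
      rwa [carts.2.2.2.2.1, zpow_neg_one] at this

/-- the short coroot, at an element of the small field -/
theorem sc18 {d : K} (hd : d ≠ 0) :
    Sc (Elts.hG Nodes.RGDTwD4.hp.inList 18 d * (Elts.hG Nodes.RGDTwD4.hp.inList 13 d *
      (Elts.hG Nodes.RGDTwD4.hp.inList 12 d * 1))) 14 (d⁻¹ * (d⁻¹ * (d⁻¹ * 1))) ∧
    ∀ s ∈ [18, 13, 12], Sc (Elts.hG Nodes.RGDTwD4.hp.inList 18 d * (Elts.hG Nodes.RGDTwD4.hp.inList 13 d *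
      (Elts.hG Nodes.RGDTwD4.hp.inList 12 d * 1))) s (d * d) := by
  have h0 : ∀ s < 24, Sc (Elts.hG Nodes.RGDTwD4.hp.inList 18 d) s (d ^ chevD4.cartan 0 s) := by
    intro s hs
    have := sc_hG (K := K) (j := 0) (s := s) (by rw [rank4]; norm_num) (by rw [nroots24]; exact hs) hd
    rwa [simples.1] at this
  have h2 : ∀ s < 24, Sc (Elts.hG Nodes.RGDTwD4.hp.inList 13 d) s (d ^ chevD4.cartan 2 s) := by
    intro s hs
    have := sc_hG (K := K) (j := 2) (s := s) (by rw [rank4]; norm_num) (by rw [nroots24]; exact hs) hd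
    rwa [simples.2.2.1] at this
  have h3 : ∀ s < 24, Sc (Elts.hG Nodes.RGDTwD4.hp.inList 12 d) s (d ^ chevD4.cartan 3 s) := by
    intro s hs
    have := sc_hG (K := K) (j := 3) (s := s) (by rw [rank4]; norm_num) (by rw [nroots24]; exact hs) hd
    rwa [simples.2.2.2] at this
  refine ⟨?_, ?_⟩
  · have := (h0 14 (by norm_num)).mul ((h2 14 (by norm_num)).mul ((h3 14 (by norm_num)).mul (Sc.one 14)))
    rwa [carts.2.1.1, carts.2.1.2.2.1, carts.2.1.2.2.2, zpow_neg_one] at this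
  · intro s hs
    simp only [List.mem_cons, List.not_mem_nil, or_false] at hs
    rcases hs with rfl | rfl | rfl
    · have := (h0 18 (by norm_num)).mul ((h2 18 (by norm_num)).mul ((h3 18 (by norm_num)).mul (Sc.one 18)))
      have e : d ^ chevD4.cartan 0 18 * (d ^ chevD4.cartan 2 18 * (d ^ chevD4.cartan 3 18 * 1)) = d * d := by
        rw [carts.1.1, carts.1.2.2.1, carts.1.2.2.2, zpow_zero, one_mul, one_mul, mul_one, zpow_two]
      rwa [e] at this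
    · have := (h0 13 (by norm_num)).mul ((h2 13 (by norm_num)).mul ((h3 13 (by norm_num)).mul (Sc.one 13)))
      have e : d ^ chevD4.cartan 0 13 * (d ^ chevD4.cartan 2 13 * (d ^ chevD4.cartan 3 13 * 1)) = d * d := by
        rw [carts.2.2.1.1, carts.2.2.1.2.2.1, carts.2.2.1.2.2.2, zpow_zero, one_mul, one_mul, mul_one, zpow_two]
      rwa [e] at this
    · have := (h0 12 (by norm_num)).mul ((h2 12 (by norm_num)).mul ((h3 12 (by norm_num)).mul (Sc.one 12)))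
      have e : d ^ chevD4.cartan 0 12 * (d ^ chevD4.cartan 2 12 * (d ^ chevD4.cartan 3 12 * 1)) = d * d := by
        rw [carts.2.2.2.1, carts.2.2.2.2.2.1, carts.2.2.2.2.2.2, zpow_zero, one_mul, one_mul, mul_one, zpow_two]
      rwa [e] at this

/-- the action on twisted products -/
theorem conj_yv {Γ : Type*} [Group Γ] {x : ℕ → K → Γ} (φ : K →+* K) {c : K} (hc : φ c = c) {g : Γ} {o : List ℕ}
    (h : ∀ s ∈ o, ∀ t, g * x s t * g⁻¹ = x s (c * t)) (a : K) :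
    g * Nodes.RGDFoldSL.yv x φ o a * g⁻¹ = Nodes.RGDFoldSL.yv x φ o (c * a) := by
  induction o generalizing a with
  | nil =>
    show g * 1 * g⁻¹ = 1
    rw [mul_one, mul_inv_cancel]
  | cons s o ih =>
    show g * (x s a * Nodes.RGDFoldSL.yv x φ o (φ a)) * g⁻¹ = x s (c * a) * Nodes.RGDFoldSL.yv x φ o (φ (c * a))
    rw [map_mul, hc, ← ih (fun s' hs' => h s' (List.mem_cons_of_mem _ hs')), ← h s List.mem_cons_self]
    group

/-! ### The nodes -/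

open Cfsg.Agent.Nodes.RGDFoldSL Cfsg.Agent.Nodes.RGDTwNode.D4
open Cfsg.Agent.ChevalleyStructure.SL2Hom (up lo)

section Nodes

variable (hφ : ∀ x, φ x = x ^ q) (hle : twistedD4 K q ≤ D4Fixed.fix φ)

theorem hf (φ : K →+* K) (i : Fin 2) : ∀ s ∈ rep i :: rest i, ∀ t, ((Nodes.RGDTwD4.eps s : ℤ) : K) * φ t = φ t :=
  fun s hs t => by rw [eps_one i s hs, Int.cast_one, one_mul]

/-- the homomorphism of the node `i` -/
noncomputable def Ph (i : Fin 2) : Matrix.SpecialLinearGroup (Fin 2) (Fx φ ((rest i).length + 1)) →* ↥(twistedD4 K q) :=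
  Phi (Nodes.RGDTwD4.foldGrp hφ hle) (nodeOK i) (hf φ i)

theorem mem_X (i : Fin 2) (g : ↥(twistedD4 K q)) : g ∈ Nodes.RGDTwD4.X φ q (sr i) ↔ ∃ a, g = Ph hφ hle i (up a) :=
  mem_X_iff (Nodes.RGDTwD4.foldGrp hφ hle) (nodeOK i) (hf φ i) g

theorem Ph_inj (i : Fin 2) {a b : Fx φ ((rest i).length + 1)} (h : Ph hφ hle i (up a) = Ph hφ hle i (up b)) : a = b :=
  Phi_up_injective (Nodes.RGDTwD4.foldGrp hφ hle) (nodeOK i) (hf φ i) h

theorem Ph_wS (i : Fin 2) : Ph hφ hle i (wS 1) = Nodes.RGDTwD4.n hφ i :=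
  Phi_wS (Nodes.RGDTwD4.foldGrp hφ hle) (nodeOK i) (hf φ i)

theorem Ph_hS (i : Fin 2) {d : Fx φ ((rest i).length + 1)} (hd : d ≠ 0) : Ph hφ hle i (hS d) ∈ Nodes.RGDTwD4.T K q :=
  Phi_hS (Nodes.RGDTwD4.foldGrp hφ hle) (nodeOK i) (hf φ i) hd

theorem coe_up (i : Fin 2) (a : Fx φ ((rest i).length + 1)) : ((Ph hφ hle i (up a) : ↥(twistedD4 K q)) : GL chevD4.Idx K) =
    yv (Elts.xG Nodes.RGDTwD4.hp.inList) φ (rep i :: rest i) (a : K) :=
  coe_Phi_up (Nodes.RGDTwD4.foldGrp hφ hle) (nodeOK i) (hf φ i) a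

theorem coe_hS0 (d : Fx φ ((rest 0).length + 1)) : ((Ph hφ hle 0 (hS d) : ↥(twistedD4 K q)) : GL chevD4.Idx K) =
    Elts.hG Nodes.RGDTwD4.hp.inList 14 (d : K) := by
  show hv (psi Nodes.RGDTwD4.hp.inList K) φ [14] (Matrix.SpecialLinearGroup.map (Fx φ _).subtype (hS d)) = _
  rw [map_hS]
  show psi Nodes.RGDTwD4.hp.inList K 14 (hS (d : K)) * 1 = _
  rw [mul_one, psi_hS _ (by rw [nroots24]; norm_num)]

theorem coe_hS1 (d : Fx φ ((rest 1).length + 1)) (hd : φ (d : K) = (d : K)) :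
    ((Ph hφ hle 1 (hS d) : ↥(twistedD4 K q)) : GL chevD4.Idx K) =
    Elts.hG Nodes.RGDTwD4.hp.inList 18 (d : K) * (Elts.hG Nodes.RGDTwD4.hp.inList 13 (d : K) *
      (Elts.hG Nodes.RGDTwD4.hp.inList 12 (d : K) * 1)) := by
  show hv (psi Nodes.RGDTwD4.hp.inList K) φ [18, 13, 12] (Matrix.SpecialLinearGroup.map (Fx φ _).subtype (hS d)) = _
  rw [map_hS]
  show psi Nodes.RGDTwD4.hp.inList K 18 (hS (d : K)) * (psi Nodes.RGDTwD4.hp.inList K 13
    (Matrix.SpecialLinearGroup.map φ (hS (d : K))) * (psi Nodes.RGDTwD4.hp.inList K 12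
      (Matrix.SpecialLinearGroup.map φ (Matrix.SpecialLinearGroup.map φ (hS (d : K)))) * 1)) = _
  rw [map_hS, map_hS, hd, hd, psi_hS _ (by rw [nroots24]; norm_num), psi_hS _ (by rw [nroots24]; norm_num),
    psi_hS _ (by rw [nroots24]; norm_num)]

theorem T_comm (x : ↥(twistedD4 K q)) (hx : x ∈ Nodes.RGDTwD4.T K q) (y : ↥(twistedD4 K q))
    (hy : y ∈ Nodes.RGDTwD4.T K q) : x * y = y * x := by
  have hx' : (x : GL chevD4.Idx K) ∈ chevD4.diagonalSubgroup K := (Subgroup.mem_inf.1 (Subgroup.mem_subgroupOf.1 hx)).1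
  have hy' : (y : GL chevD4.Idx K) ∈ chevD4.diagonalSubgroup K := (Subgroup.mem_inf.1 (Subgroup.mem_subgroupOf.1 hy)).1
  obtain ⟨χ, hχ⟩ := HMatDiagAll.mem_torus.1 (HMatDiagAll.diagonalSubgroup_le_torus Nodes.RGDTwD4.hp.inList hx')
  obtain ⟨ψ, hψ⟩ := HMatDiagAll.mem_torus.1 (HMatDiagAll.diagonalSubgroup_le_torus Nodes.RGDTwD4.hp.inList hy')
  apply Subtype.ext
  apply Units.ext
  rw [Subgroup.coe_mul, Subgroup.coe_mul, Units.val_mul, Units.val_mul, hχ, hψ, Matrix.diagonal_mul_diagonal,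
    Matrix.diagonal_mul_diagonal]
  congr 1
  funext i
  exact mul_comm _ _

theorem mem_Fx' {d : K} (hd : φ d = d) (k : ℕ) : d ∈ Fx φ k := mem_Fx.2 (Function.iterate_fixed hd k)

include hφ hle in
/-- a torus element which is fixed-point-free on the short simple root group -/
theorem tor1 {d : K} (hd : φ d = d) (h0 : d ≠ 0) (h1 : d ≠ 1) :
    ∃ a ∈ Nodes.RGDTwD4.T K q, ∀ x ∈ Nodes.RGDTwD4.X φ q (sr 1), a * x * a⁻¹ = x → x = 1 := by
  have h0' : (⟨d, mem_Fx' hd _⟩ : Fx φ ((rest 0).length + 1)) ≠ 0 := fun h => h0 (congrArg Subtype.val h)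
  refine ⟨Ph hφ hle 0 (hS ⟨d, mem_Fx' hd _⟩), Ph_hS hφ hle 0 h0', ?_⟩
  intro x hx e
  obtain ⟨a, rfl⟩ := (mem_X hφ hle 1 x).1 hx
  have hdi : φ d⁻¹ = d⁻¹ := by rw [map_inv₀, hd]
  have e1 : ((Ph hφ hle 0 (hS ⟨d, mem_Fx' hd _⟩) * Ph hφ hle 1 (up a) * (Ph hφ hle 0 (hS ⟨d, mem_Fx' hd _⟩))⁻¹ :
      ↥(twistedD4 K q)) : GL chevD4.Idx K) = ((Ph hφ hle 1 (up (⟨d⁻¹, mem_Fx' hdi _⟩ * a)) : ↥(twistedD4 K q)) :
        GL chevD4.Idx K) := by
    rw [Subgroup.coe_mul, Subgroup.coe_mul, Subgroup.coe_inv, coe_hS0, coe_up, coe_up]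
    exact conj_yv φ hdi (fun s hs => (sc14 h0).2 s hs) _
  rw [e] at e1
  have e2 := Ph_inj hφ hle 1 (Subtype.ext e1)
  have e3 : a = 0 := by
    by_contra ha
    have h4 : (1 : Fx φ ((rest 1).length + 1)) = ⟨d⁻¹, mem_Fx' hdi _⟩ := mul_right_cancel₀ ha (by rw [one_mul]; exact e2)
    have h5 : (1 : K) = d⁻¹ := congrArg Subtype.val h4
    exact h1 (inv_eq_one.1 h5.symm)
  rw [e3, SLNode.up_zero, map_one]

include hφ hle in
/-- a torus element which centralises the short simple root group and is fixed-point-free on the long one -/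
theorem tor10 {d : K} (hd : φ d = d) (h0 : d ≠ 0) (h1 : d ≠ 1) :
    ∃ a ∈ Nodes.RGDTwD4.T K q, (∀ x ∈ Nodes.RGDTwD4.X φ q (sr 1), a * x * a⁻¹ = x) ∧
      ∀ x ∈ Nodes.RGDTwD4.X φ q (sr 0), a * x * a⁻¹ = x → x = 1 := by
  have hdd : φ (d * d) = d * d := by rw [map_mul, hd]
  have h0' : (⟨d * d, mem_Fx' hdd _⟩ : Fx φ ((rest 0).length + 1)) ≠ 0 :=
    fun h => mul_ne_zero h0 h0 (congrArg Subtype.val h)
  have h0'' : (⟨d, mem_Fx' hd _⟩ : Fx φ ((rest 1).length + 1)) ≠ 0 := fun h => h0 (congrArg Subtype.val h)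
  refine ⟨Ph hφ hle 0 (hS ⟨d * d, mem_Fx' hdd _⟩) * Ph hφ hle 1 (hS ⟨d, mem_Fx' hd _⟩),
    mul_mem (Ph_hS hφ hle 0 h0') (Ph_hS hφ hle 1 h0''), ?_, ?_⟩
  · intro x hx
    obtain ⟨a, rfl⟩ := (mem_X hφ hle 1 x).1 hx
    apply Subtype.ext
    rw [Subgroup.coe_mul, Subgroup.coe_mul, Subgroup.coe_inv, Subgroup.coe_mul, coe_hS0, coe_hS1 hφ hle _ hd, coe_up]
    have h3 : ∀ s ∈ [18, 13, 12], Sc (Elts.hG Nodes.RGDTwD4.hp.inList 14 (d * d) *
        (Elts.hG Nodes.RGDTwD4.hp.inList 18 d * (Elts.hG Nodes.RGDTwD4.hp.inList 13 d *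
          (Elts.hG Nodes.RGDTwD4.hp.inList 12 d * 1)))) s 1 := by
      intro s hs
      have := ((sc14 (mul_ne_zero h0 h0)).2 s hs).mul ((sc18 h0).2 s hs)
      rwa [inv_mul_cancel₀ (mul_ne_zero h0 h0)] at this
    have h4 := conj_yv φ (map_one φ) h3 (a : K)
    rw [one_mul] at h4
    exact h4
  · intro x hx e
    obtain ⟨a, rfl⟩ := (mem_X hφ hle 0 x).1 hx
    have h3 : ∀ s ∈ [14], Sc (Elts.hG Nodes.RGDTwD4.hp.inList 14 (d * d) *
        (Elts.hG Nodes.RGDTwD4.hp.inList 18 d * (Elts.hG Nodes.RGDTwD4.hp.inList 13 d *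
          (Elts.hG Nodes.RGDTwD4.hp.inList 12 d * 1)))) s d := by
      intro s hs
      rw [List.mem_singleton] at hs
      subst hs
      have := (sc14 (mul_ne_zero h0 h0)).1.mul (sc18 h0).1
      have e5 : d * d * (d * d) * (d⁻¹ * (d⁻¹ * (d⁻¹ * 1))) = d := by field_simp
      rwa [e5] at this
    have e1 : ((Ph hφ hle 0 (hS ⟨d * d, mem_Fx' hdd _⟩) * Ph hφ hle 1 (hS ⟨d, mem_Fx' hd _⟩) * Ph hφ hle 0 (up a) *
        (Ph hφ hle 0 (hS ⟨d * d, mem_Fx' hdd _⟩) * Ph hφ hle 1 (hS ⟨d, mem_Fx' hd _⟩))⁻¹ :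
        ↥(twistedD4 K q)) : GL chevD4.Idx K) = ((Ph hφ hle 0 (up (⟨d, mem_Fx' hd _⟩ * a)) : ↥(twistedD4 K q)) :
          GL chevD4.Idx K) := by
      rw [Subgroup.coe_mul, Subgroup.coe_mul, Subgroup.coe_inv, Subgroup.coe_mul, coe_hS0, coe_hS1 hφ hle _ hd, coe_up,
        coe_up]
      exact conj_yv φ hd h3 _
    rw [e] at e1
    have e2 := Ph_inj hφ hle 0 (Subtype.ext e1)
    have e3 : a = 0 := by
      by_contra ha
      have h4 : (1 : Fx φ ((rest 0).length + 1)) = ⟨d, mem_Fx' hd _⟩ := mul_right_cancel₀ ha (by rw [one_mul]; exact e2)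
      exact h1 (congrArg Subtype.val h4).symm
    rw [e3, SLNode.up_zero, map_one]

end Nodes

end Cfsg.Agent.ParSys.Fam.D4

namespace Cfsg.Agent.ParSys.Fam

open Cfsg.Lie Cfsg.Agent.Nodes.RGDChev Cfsg.Agent.Nodes.FreeTorus Cfsg.Agent.KFacts.RgdChevCoord
open Cfsg.Agent.Tits.Roots Cfsg.Agent.Tits.Core Cfsg.Agent.Tits.RootComb
open Cfsg.Agent.ChevalleyStructure
open Cfsg.Agent.Nodes.RGDFoldSL Cfsg.Agent.Nodes.RGDTwNode.D4

/-- **`³D₄(q)`, `q ≥ 4` even.** -/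
theorem hasKPairSep_D4 {K : Type*} [Field K] [Fintype K] [CharP K 2] {q : ℕ} (hq : IsPrimePow q)
    (hK : Fintype.card K = q ^ 3) (h4 : 4 ≤ q) : HasKPairSep 2 ↥(twistedD4 K q) := by
  have : Fact (Nat.Prime 2) := ⟨Nat.prime_two⟩
  have : IsSimpleGroup ↥(twistedD4 K q) := (Cfsg.Agent.S1071.result hq hK).1
  obtain ⟨φ, hφ⟩ := D4Fixed.exists_frob hq hK
  have hle := D4Fixed.twisted_le_fix hK hφ
  have hcard := D4H1.card_fixed (by omega : 1 < q) hK hφ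
  -- the automorphism
  have hbij : Function.Bijective φ := Finite.injective_iff_bijective.1 φ.injective
  have h3 : ∀ a, φ (φ (φ a)) = a := by
    intro t
    rw [hφ, hφ, hφ, ← pow_mul, ← pow_mul]
    have : q * (q * q) = q ^ 3 := by ring
    rw [this, ← hK]
    exact FiniteField.pow_card t
  have hne : ∃ d, φ d ≠ d := by
    by_contra hcon
    push Not at hcon
    have h5 : Nat.card {b : Kˣ // φ b = b} = Nat.card Kˣ :=
      Nat.card_congr (Equiv.subtypeUnivEquiv fun b : Kˣ => hcon b)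
    rw [hcard, Nat.card_units, Nat.card_eq_fintype_card, hK] at h5
    have h6 : q < q ^ 3 := by nlinarith [Nat.pow_le_pow_left h4 2, h4]
    omega
  obtain ⟨d, hd, hd0, hd1⟩ : ∃ d : K, φ d = d ∧ d ≠ 0 ∧ d ≠ 1 := by
    by_contra hcon
    push Not at hcon
    have h5 : Nat.card {b : Kˣ // φ b = b} ≤ 1 := by
      rw [Finite.card_le_one_iff_subsingleton]
      refine ⟨fun a b => Subtype.ext (Units.ext ?_)⟩
      rw [hcon _ a.2 (Units.ne_zero _), hcon _ b.2 (Units.ne_zero _)]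
    omega
  have hfin := Nodes.RGDChev.finite_W G2.hp D4.cs
  have R := Nodes.RGDTwD4.rgd (K := K) D4.cs hK hφ 2
  refine hasKPairSep_of_rgd R (Nodes.RGDTwD4.G1_eq_top D4.cs hK hφ) (i := 1) (j := 0) (by decide)
    (fun k => ?_) ?_
    (fun z hz h0 hz1 hz0 => D4.hX hle (σ := RingEquiv.ofBijective φ hbij) hφ (fun _ => rfl) h3 hne z hz h0 hz1 hz0)
    D4.T_comm
    (SLNode.isCyclic R 1 (D4.Ph hφ hle 1) (D4.mem_X hφ hle 1) (D4.Ph_wS hφ hle 1) fun _ hd => D4.Ph_hS hφ hle 1 hd)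
    (SLNode.isCyclic R 0 (D4.Ph hφ hle 0) (D4.mem_X hφ hle 0) (D4.Ph_wS hφ hle 0) fun _ hd => D4.Ph_hS hφ hle 0 hd)
    (Or.inl (SLNode.inverted R 1 (D4.Ph hφ hle 1) (D4.mem_X hφ hle 1) (D4.Ph_wS hφ hle 1)
      fun _ hd => D4.Ph_hS hφ hle 1 hd))
    (D4.tor1 hφ hle hd hd0 hd1) (D4.tor10 hφ hle hd hd0 hd1)
  · fin_cases k
    · exact Or.inr rfl
    · exact Or.inl rfl
  · decide

end Cfsg.Agent.ParSys.Fam

end

section


/-!
# The `p`-part of the outer automorphism group of `³D₄(q)`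

* `coordD` : the coordinates of the simple root groups, `PhiD`, `chD`;
* `DTau` : `β` fixes the nodes and acts on the root groups with the field automorphism `τ` of `K`, `|K| = q³`;
  `exists_dtau`;
* `exists_field`, `exists_outer`, `exists_hom` : every `p`-group of automorphisms, modulo its inner automorphisms, embeds
  in `Aut K`.
-/

set_option autoImplicit false
set_option linter.unusedSectionVars false
set_option maxHeartbeats 400000

namespace Cfsg.Agent.KFacts.TwDFour.Out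

open CoxeterSystem Cfsg.Agent.ChevalleyStructure.CoxeterGeom Cfsg.Agent.Tits.Roots Cfsg.Agent.Tits.Core
  Cfsg.Agent.Tits.Exchange Cfsg.Agent.Nodes.Reps Cfsg.Agent.Nodes.BNOf Cfsg.Agent.Nodes.StabComb
  Cfsg.Agent.Nodes.Bruhat Cfsg.Agent.Nodes.OppDec Cfsg.Agent.Nodes.RGDTwGen Cfsg.Agent.Nodes.RGDChev
  Cfsg.Agent.Nodes.RGDFold Cfsg.Agent.Nodes.RGDFoldSL
open Cfsg.Agent.KFacts.RgdOpp Cfsg.Agent.KFacts.RgdAut Cfsg.Agent.KFacts.RgdDiag Cfsg.Agent.KFacts.RgdRigid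
  Cfsg.Agent.KFacts.RgdField Cfsg.Agent.KFacts.RgdTau Cfsg.Agent.KFacts.RgdNodes
open Cfsg.Agent.KFacts.RgdChevCoord (closure_sq)
open Cfsg.Lie Cfsg.Agent.ChevalleyStructure
open Cfsg.Agent.ChevalleyStructure.SL2Hom (up lo)
open Cfsg.Agent.KFacts.TwESix.NodeCoord
open Cfsg.Agent.KFacts.TwESix.Out (tau_eq)
open Cfsg.Agent.KFacts.TwESix.OutTwo (card_of_coord)
open Cfsg.Agent.Nodes.RGDTwD4 Cfsg.Agent.Nodes.RGDTwNode.D4
open Cfsg.Agent.ParSys.Fam.D4 (Ph hf coe_hS0 sc14)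

universe u

/-- symmetries of the diagram `G₂` -/
theorem perm_G2 : ∀ σ : Equiv.Perm (Fin 2), σ 0 ≠ 1 → σ = 1 := by decide +kernel

variable {K : Type u} [Field K] [Fintype K] {q : ℕ} {φ : K →+* K} (hφ : ∀ x, φ x = x ^ q)
  (hK : Fintype.card K = q ^ 3)

/-- the coordinate field of the node `i` -/
abbrev KD (φ : K →+* K) (i : Fin 2) : Subfield K := Fx φ ((rest i).length + 1)

/-- The homomorphism `SL₂ → ³D₄(q)` of the node `i`. -/
noncomputable def PhiD (i : Fin 2) : Matrix.SpecialLinearGroup (Fin 2) (KD φ i) →* ↥(twistedD4 K q) :=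
  Phi (foldGrp hφ (D4Fixed.twisted_le_fix hK hφ)) (nodeOK i) (hf φ i)

/-- The scalar of a torus element on the simple root group `i`. -/
noncomputable def chD (i : Fin 2) (t : ↥(twistedD4 K q)) : KD φ i :=
  ch (foldGrp hφ (D4Fixed.twisted_le_fix hK hφ)) (nodeOK i) (hf φ i) t

theorem coordD (i : Fin 2) : Coord (T K q) (X φ q (sr i)) (fun a => PhiD hφ hK i (up a)) (chD hφ hK i) :=
  coord (foldGrp hφ (D4Fixed.twisted_le_fix hK hφ)) (nodeOK i) (hf φ i)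

theorem mem_X (i : Fin 2) (g : ↥(twistedD4 K q)) : g ∈ X φ q (sr i) ↔ ∃ a, g = PhiD hφ hK i (up a) :=
  mem_X_iff (foldGrp hφ (D4Fixed.twisted_le_fix hK hφ)) (nodeOK i) (hf φ i) g

theorem PhiD_wS (i : Fin 2) : PhiD hφ hK i (wS 1) = n hφ i :=
  Phi_wS (foldGrp hφ (D4Fixed.twisted_le_fix hK hφ)) (nodeOK i) (hf φ i)

theorem PhiD_hS (i : Fin 2) (d : KD φ i) (hd : d ≠ 0) : PhiD hφ hK i (hS d) ∈ T K q :=
  Phi_hS (foldGrp hφ (D4Fixed.twisted_le_fix hK hφ)) (nodeOK i) (hf φ i) hd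

theorem chD_hS (i : Fin 2) (d : KD φ i) (hd : d ≠ 0) : chD hφ hK i (PhiD hφ hK i (hS d)) = d ^ 2 :=
  ch_hS (foldGrp hφ (D4Fixed.twisted_le_fix hK hφ)) (nodeOK i) (hf φ i) hd

theorem chD_eq (j : Fin 2) {t : ↥(twistedD4 K q)} (ht : t ∈ T K q) {c : K}
    (hc : (t : GL chevD4.Idx K) * Elts.xG hp.inList (rep j) 1 * (t : GL chevD4.Idx K)⁻¹ =
      Elts.xG hp.inList (rep j) c) : (chD hφ hK j t : K) = c :=
  ch_eq (foldGrp hφ (D4Fixed.twisted_le_fix hK hφ)) (nodeOK j) (hf φ j) ht hc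

theorem ch01 (d : KD φ 0) (hd : d ≠ 0) : (chD hφ hK 1 (PhiD hφ hK 0 (hS d)) : K) = (d : K)⁻¹ := by
  have hd' : (d : K) ≠ 0 := fun h => hd (Subtype.ext h)
  apply chD_eq hφ hK 1 (PhiD_hS hφ hK 0 d hd)
  have h1 : ((PhiD hφ hK 0 (hS d) : ↥(twistedD4 K q)) : GL chevD4.Idx K) = Elts.hG hp.inList 14 (d : K) :=
    coe_hS0 hφ (D4Fixed.twisted_le_fix hK hφ) d
  rw [h1]
  have h2 := (sc14 (K := K) hd').2 18 (by simp) 1
  rw [mul_one] at h2
  exact h2

theorem F1_le_F3 : KD φ 0 ≤ KD φ 1 := by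
  intro a ha
  rw [mem_Fx] at ha ⊢
  have ha' : φ a = a := ha
  show φ (φ (φ a)) = a
  rw [ha', ha', ha']

include hK in
theorem F3_eq_top (hφ : ∀ x, φ x = x ^ q) : KD φ 1 = ⊤ := by
  rw [eq_top_iff]
  intro a _
  rw [mem_Fx]
  show φ (φ (φ a)) = a
  rw [hφ, hφ, hφ, ← pow_mul, ← pow_mul]
  have h1 : q * (q * q) = Fintype.card K := by rw [hK]; ring
  rw [h1]
  exact FiniteField.pow_card a

theorem F1_ne_top (hφ : ∀ x, φ x = x ^ q) (hK : Fintype.card K = q ^ 3) (hq1 : 1 < q) : KD φ 0 ≠ ⊤ := by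
  intro h
  classical
  have h1 : ∀ a : K, a ^ q = a := by
    intro a
    have h2 : a ∈ KD φ 0 := by rw [h]; exact Subfield.mem_top a
    rw [mem_Fx] at h2
    have h3 : φ a = a := h2
    rwa [hφ] at h3
  obtain ⟨g, hg⟩ := IsCyclic.exists_generator (α := Kˣ)
  have h2 : orderOf g = Fintype.card Kˣ := orderOf_eq_card_of_forall_mem_zpowers hg |>.trans Nat.card_eq_fintype_card
  have h3 : g ^ (q - 1) = 1 := by
    have h4 : g ^ q = g := Units.ext (by rw [Units.val_pow_eq_pow_val]; exact h1 _)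
    have h5 : g ^ (q - 1) * g = g := by
      rw [← pow_succ, Nat.sub_add_cancel hq1.le, h4]
    exact mul_eq_right.1 h5
  have h4 := orderOf_dvd_of_pow_eq_one h3
  rw [h2, Fintype.card_units, hK] at h4
  have h5 := Nat.le_of_dvd (by omega) h4
  have h6 : q * 4 ≤ q ^ 3 := by
    rw [pow_succ', pow_two]
    exact Nat.mul_le_mul_left q (Nat.mul_le_mul hq1 hq1)
  omega

include hφ hK in
theorem card_ne (hq1 : 1 < q) : Nat.card ↥(X φ q (sr 1)) ≠ Nat.card ↥(X φ q (sr 0)) := by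
  rw [card_of_coord (coordD hφ hK 1), card_of_coord (coordD hφ hK 0)]
  intro h
  apply F1_ne_top hφ hK hq1
  have h2 : Nat.card (KD φ 1) = Nat.card K := by
    rw [F3_eq_top hK hφ]
    exact Nat.card_congr Subfield.topEquiv.toEquiv
  have h3 : Nat.card (KD φ 0) = Nat.card K := h.symm.trans h2
  have h4 : ((KD φ 0 : Subfield K) : Set K) = Set.univ := by
    apply Set.eq_of_subset_of_ncard_le (Set.subset_univ _)
    rw [Set.ncard_univ, ← h3]
    exact le_of_eq (Nat.card_coe_set_eq _)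
  exact SetLike.coe_injective (h4.trans Subfield.coe_top.symm)

instance charP_KD (p : ℕ) [CharP K p] (i : Fin 2) : CharP (KD φ i) p :=
  (RingHom.charP_iff (KD φ i).subtype (KD φ i).subtype_injective p).2 inferInstance

/-- `β` fixes the nodes and acts on the simple root groups with the field automorphism `τ` of `K`. -/
structure DTau (β : MulAut ↥(twistedD4 K q)) (τ : K ≃+* K) : Prop where
  diag : Diag (T K q) (X φ q) β 1
  char : ∀ i, ∀ t ∈ T K q, (chD hφ hK i (β t) : K) = τ (chD hφ hK i t : K)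

variable {W : Type*} [Group W] (cs : CoxeterSystem CoxeterMatrix.G₂ W)

include cs in
theorem finiteW : Finite W := Cfsg.Agent.Nodes.RGDFold.finite_W (hp := hp) cs isCartan foldData

theorem DTau.one : DTau hφ hK (1 : MulAut ↥(twistedD4 K q)) 1 := ⟨Diag.one, fun _ _ _ => rfl⟩

theorem DTau.mul {β β' : MulAut ↥(twistedD4 K q)} {τ τ' : K ≃+* K} (S : DTau hφ hK β τ)
    (S' : DTau hφ hK β' τ') : DTau hφ hK (β * β') (τ * τ') where
  diag := by
    have := S.diag.mul S'.diag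
    rwa [mul_one] at this
  char i t ht := by
    rw [MulAut.mul_apply, S.char _ _ ((S'.diag.tor t).2 ht), S'.char i t ht]
    rfl

theorem DTau.unique {β : MulAut ↥(twistedD4 K q)} {τ τ' : K ≃+* K} (S : DTau hφ hK β τ)
    (S' : DTau hφ hK β τ') : τ = τ' := by
  let E : AddSubgroup K := AddMonoidHom.eqLocus (τ : K →+ K) (τ' : K →+ K)
  have hE : E = ⊤ := by
    apply closure_sq
    intro d hd
    have h1 : d ∈ KD φ 1 := by
      rw [F3_eq_top hK hφ]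
      exact Subfield.mem_top d
    have h2 : (⟨d, h1⟩ : KD φ 1) ≠ 0 := fun h => hd (congrArg Subtype.val h)
    have h3 := S.char 1 _ (PhiD_hS hφ hK 1 ⟨d, h1⟩ h2)
    have h4 := S'.char 1 _ (PhiD_hS hφ hK 1 ⟨d, h1⟩ h2)
    rw [h3, chD_hS hφ hK 1 _ h2] at h4
    exact h4
  ext a
  have h3 : a ∈ E := by rw [hE]; exact AddSubgroup.mem_top a
  exact h3

include cs in
/-- **One field automorphism.** -/
theorem exists_dtau (p : ℕ) [Fact p.Prime] [CharP K p] {β : MulAut ↥(twistedD4 K q)}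
    (D : Diag (T K q) (X φ q) β 1) : ∃ τ : K ≃+* K, DTau hφ hK β τ := by
  have : Finite W := finiteW cs
  have R := Cfsg.Agent.Nodes.RGDTwD4.rgd cs hK hφ p
  obtain ⟨τ, S⟩ := exists_ntau (coordD hφ hK) D
  have h01 : ∀ a : KD φ 0, (τ 1 (Subfield.inclusion F1_le_F3 a) : K) = (τ 0 a : K) := by
    intro a
    have h1 := tau_eq R (i := (0 : Fin 2)) (mem_X hφ hK 0) (PhiD_wS hφ hK 0) (PhiD_hS hφ hK 0)
      (χ := chD hφ hK 0) (χ' := chD hφ hK 1) (em := Subfield.inclusion F1_le_F3) (chD_hS hφ hK 0)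
      (fun d hd => Subtype.ext (ch01 hφ hK d hd)) D (fun t ht => S.char 0 t ht) (fun t ht => S.char 1 t ht) a
    exact congrArg Subtype.val h1
  let e : KD φ 1 ≃+* K := (RingEquiv.subfieldCongr (F3_eq_top hK hφ)).trans Subfield.topEquiv
  have he : ∀ a : KD φ 1, e a = (a : K) := fun a => rfl
  have hes : ∀ a : KD φ 1, e.symm (a : K) = a := fun a => by rw [← he, e.symm_apply_apply]
  refine ⟨(e.symm.trans (τ 1)).trans e, D, ?_⟩
  have h2 : ∀ a : KD φ 1, ((e.symm.trans (τ 1)).trans e) (a : K) = (τ 1 a : K) := by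
    intro a
    show e (τ 1 (e.symm (a : K))) = _
    rw [hes, he]
  have h3 : ∀ i : Fin 2, ∀ a : KD φ i, ((e.symm.trans (τ 1)).trans e) (a : K) = (τ i a : K) := by
    intro i
    have hi : i = 0 ∨ i = 1 := by fin_cases i <;> simp
    rcases hi with rfl | rfl
    · intro a
      exact (h2 (Subfield.inclusion F1_le_F3 a)).trans (h01 a)
    · exact h2
  intro i t ht
  rw [h3, S.char i t ht]

include cs in
/-- conjugation by an element of the torus -/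
theorem dtau_conj (p : ℕ) [Fact p.Prime] [CharP K p] {t : ↥(twistedD4 K q)} (ht : t ∈ T K q) :
    DTau hφ hK (MulAut.conj t) 1 := by
  have : Finite W := finiteW cs
  have R := Cfsg.Agent.Nodes.RGDTwD4.rgd cs hK hφ p
  have key : ∀ x, IsRoot cs isCartan x → ∀ y, MulAut.conj t y ∈ X φ q x ↔ y ∈ X φ q x := by
    intro x hx y
    have h1 := R.tor x hx t ht
    constructor
    · intro hy
      rw [← h1, mem_cj, MulAut.conj_apply] at hy
      have e : t⁻¹ * (t * y * t⁻¹) * t = y := by group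
      rwa [e] at hy
    · intro hy
      rw [← h1, mem_cj, MulAut.conj_apply]
      have e : t⁻¹ * (t * y * t⁻¹) * t = y := by group
      rwa [e]
  refine ⟨⟨fun y => ?_, fun i y => ?_, fun i y => ?_⟩, fun i s hs => ?_⟩
  · rw [MulAut.conj_apply]
    constructor
    · intro hy
      have e : y = t⁻¹ * (t * y * t⁻¹) * t := by group
      rw [e]
      exact mul_mem (mul_mem (inv_mem ht) hy) ht
    · intro hy
      exact mul_mem (mul_mem ht hy) (inv_mem ht)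
  · exact key _ (isRoot_sr cs isCartan i) y
  · exact key _ (isRoot_sr cs isCartan i).neg y
  · rw [MulAut.conj_apply, (coordD hφ hK i).chi_conj ht hs]
    rfl

include cs in
/-- A `p`-element with trivial field automorphism is trivial. -/
theorem dtau_eq_one (p : ℕ) [Fact p.Prime] [CharP K p] {β : MulAut ↥(twistedD4 K q)}
    (S : DTau hφ hK β 1) {k : ℕ} (hβ : β ^ p ^ k = 1) : β = 1 := by
  have : Finite W := finiteW cs
  have R := Cfsg.Agent.Nodes.RGDTwD4.rgd cs hK hφ p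
  have hS : NTau (T K q) (X φ q) (chD hφ hK) β 1 := ⟨S.diag, fun i t ht => Subtype.ext (S.char i t ht)⟩
  exact NTau.eq_one (coordD hφ hK) R (G1_eq_top cs hK hφ) hS hβ

/-- **A `p`-group of automorphisms fixing `U`.** -/
theorem exists_field (hq1 : 1 < q) (p : ℕ) [Fact p.Prime] [CharP K p]
    {S : Subgroup (MulAut ↥(twistedD4 K q))} (hSp : IsPGroup p ↥S)
    (hS : ∀ α ∈ S, Fix α (RGD.Sup (X φ q) (RGD.Pos cs isCartan))) :
    ∃ f : ↥S →* (K ≃+* K), ∀ α : ↥S,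
      (∃ u ∈ RGD.Sup (X φ q) (RGD.Pos cs isCartan), DTau hφ hK (MulAut.conj u * α.1) (f α) ∧
        ∀ k : ℕ, α ^ k = 1 → (MulAut.conj u * α.1) ^ k = 1) ∧
      (f α = 1 ↔ ∃ u ∈ RGD.Sup (X φ q) (RGD.Pos cs isCartan), α.1 = MulAut.conj u) ∧
      ((∃ x, α.1 = MulAut.conj x) → f α = 1) := by
  have : Finite W := finiteW cs
  have R := Cfsg.Agent.Nodes.RGDTwD4.rgd cs hK hφ p
  have hG1 : RGD.Sup (X φ q) {x | IsRoot cs isCartan x} = ⊤ := G1_eq_top cs hK hφ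
  have hG := GG_eq_top (T := T K q) hG1
  obtain ⟨g, hg⟩ := exists_toFrame R hG S hS
  have h1 : ∀ α : ↥S, ∃ τ : K ≃+* K, DTau hφ hK (g α) τ := by
    intro α
    obtain ⟨σ, D⟩ := exists_diag R hG (hg α).1.1 (hg α).1.2
    have h2 : σ = 1 := by
      apply perm_G2 σ
      intro h3
      have h4 := Diag.card_eq D 0
      rw [h3] at h4
      exact card_ne hφ hK hq1 h4
    subst h2
    exact exists_dtau hφ hK cs p D
  choose τ hτ using h1
  refine ⟨MonoidHom.mk' τ fun α γ => DTau.unique hφ hK (hτ _) ?_, fun α => ⟨?_, ?_, ?_⟩⟩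
  · rw [map_mul]
    exact (hτ α).mul hφ hK (hτ γ)
  · obtain ⟨u, hu, e⟩ := (hg α).2.1
    refine ⟨u, hu, ?_, fun k hk => ?_⟩
    · rw [← e]
      exact hτ α
    · rw [← e]
      exact (hg α).2.2.1 k hk
  · rw [← (hg α).2.2.2.1]
    constructor
    · intro h2
      have h3 : τ α = 1 := h2
      have h4 := hτ α
      rw [h3] at h4
      obtain ⟨k, hk⟩ := hSp α
      exact dtau_eq_one hφ hK cs p h4 ((hg α).2.2.1 _ hk)
    · intro h2
      show τ α = 1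
      apply DTau.unique hφ hK (hτ α)
      rw [h2]
      exact DTau.one hφ hK
  · rintro ⟨x, hx⟩
    show τ α = 1
    apply DTau.unique hφ hK (hτ α)
    obtain ⟨u, hu, e⟩ := (hg α).2.1
    rw [hx, ← map_mul] at e
    rw [e]
    apply dtau_conj hφ hK cs p
    have h2 := (hg α).1
    rw [e] at h2
    have h3 : u * x ∈ RGD.B cs isCartan (T K q) (X φ q) := by
      rw [← normalizer_U' R hG, Subgroup.mem_normalizer_iff]
      intro y
      rw [← MulAut.conj_apply]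
      exact (h2.1 y).symm
    have h4 : u * x ∈ BN cs isCartan (T K q) (X φ q) := by
      rw [← normalizer_UN R hG, Subgroup.mem_normalizer_iff]
      intro y
      rw [← MulAut.conj_apply]
      exact (h2.2 y).symm
    rw [← B_inf_BN R]
    exact ⟨h3, h4⟩

include cs hφ hK in
theorem not_dvd_index (p : ℕ) [Fact p.Prime] [CharP K p] :
    ¬ p ∣ (RGD.Sup (X φ q) (RGD.Pos cs isCartan)).index := by
  have : Finite W := finiteW cs
  have R := Cfsg.Agent.Nodes.RGDTwD4.rgd cs hK hφ p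
  have h1 := RgdSyl.not_dvd_relIndex R
  rwa [GG_eq_top (T := T K q) (G1_eq_top cs hK hφ), Subgroup.relIndex_top_right] at h1

/-- **The `p`-part of the outer automorphism group of `³D₄(q)`** : every `p`-group `S` of automorphisms, modulo its
inner automorphisms, embeds in the Galois group of `K`. -/
theorem exists_outer (hq1 : 1 < q) (p : ℕ) [Fact p.Prime] [CharP K p]
    {S : Subgroup (MulAut ↥(twistedD4 K q))} (hSp : IsPGroup p ↥S) :
    ∃ (g : ↥(twistedD4 K q)) (f : ↥S →* (K ≃+* K)),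
      (∀ α ∈ S, Fix (MulAut.conj g⁻¹ * α * MulAut.conj g) (RGD.Sup (X φ q) (RGD.Pos cs isCartan))) ∧
      ∀ α : ↥S, (∃ u ∈ RGD.Sup (X φ q) (RGD.Pos cs isCartan),
        DTau hφ hK (MulAut.conj u * (MulAut.conj g⁻¹ * α.1 * MulAut.conj g)) (f α) ∧
          ∀ k : ℕ, α ^ k = 1 → (MulAut.conj u * (MulAut.conj g⁻¹ * α.1 * MulAut.conj g)) ^ k = 1) ∧
        (f α = 1 ↔ ∃ x, α.1 = MulAut.conj x) := by
  have : Finite W := finiteW cs
  have R := Cfsg.Agent.Nodes.RGDTwD4.rgd cs hK hφ p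
  obtain ⟨g, hg⟩ := SylFix.exists_conj_fix (p := p) R.isPGroup_Upos (not_dvd_index hφ hK cs p) hSp
  let c : MulAut ↥(twistedD4 K q) →* MulAut ↥(twistedD4 K q) := (MulAut.conj (MulAut.conj g⁻¹)).toMonoidHom
  have hc : ∀ α, c α = MulAut.conj g⁻¹ * α * MulAut.conj g := by
    intro α
    show MulAut.conj g⁻¹ * α * (MulAut.conj g⁻¹)⁻¹ = _
    rw [← map_inv, inv_inv]
  have hcinj : Function.Injective c := (MulAut.conj (MulAut.conj g⁻¹)).injective
  obtain ⟨f, hf⟩ := exists_field hφ hK cs hq1 p (S := S.map c) (hSp.map c) (by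
    rintro _ ⟨α, hα, rfl⟩
    rw [hc]
    exact hg α hα)
  let j : ↥S →* ↥(S.map c) := c.subgroupMap S
  have hj : ∀ α : ↥S, (j α).1 = MulAut.conj g⁻¹ * α.1 * MulAut.conj g := fun α => hc α.1
  refine ⟨g, f.comp j, hg, fun α => ⟨?_, ?_⟩⟩
  · obtain ⟨u, hu, h1, h2⟩ := (hf (j α)).1
    rw [hj] at h1 h2
    refine ⟨u, hu, h1, fun k hk => h2 k ?_⟩
    rw [← map_pow, hk, map_one]
  · constructor
    · intro h1
      obtain ⟨u, hu, h2⟩ := (hf (j α)).2.1.1 h1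
      rw [hj] at h2
      refine ⟨g * u * g⁻¹, ?_⟩
      rw [map_mul, map_mul, ← h2, map_inv]
      simp only [mul_assoc, mul_inv_cancel, mul_one, mul_inv_cancel_left]
    · rintro ⟨x, hx⟩
      apply (hf (j α)).2.2
      refine ⟨g⁻¹ * x * g, ?_⟩
      rw [hj, hx, map_mul, map_mul]

/-! ### The statement without coordinates -/

theorem exists_hom_model (hq : IsPrimePow q) (hK : Fintype.card K = q ^ 3) (p : ℕ) [Fact p.Prime] [CharP K p]
    {S : Subgroup (MulAut ↥(twistedD4 K q))} (hS : IsPGroup p ↥S) :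
    ∃ f : ↥S →* (K ≃+* K), ∀ α : ↥S, f α = 1 ↔ ∃ x, α.1 = MulAut.conj x := by
  obtain ⟨φ, hφ⟩ := D4Fixed.exists_frob hq hK
  obtain ⟨g, f, -, hf⟩ := exists_outer hφ hK CoxeterMatrix.G₂.toCoxeterSystem hq.one_lt p hS
  exact ⟨f, fun α => (hf α).2⟩

/-- **Automorphisms of `³D₄(q)` of `p`-power order.** -/
theorem exists_hom {G : Type*} [Group G] (hq : IsPrimePow q) (hK : Fintype.card K = q ^ 3)
    (e : G ≃* ↥(twistedD4 K q)) (p : ℕ) [Fact p.Prime] [CharP K p] {S : Subgroup (MulAut G)} (hS : IsPGroup p ↥S) :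
    ∃ f : ↥S →* (K ≃+* K), ∀ α : ↥S, f α = 1 ↔ ∃ x, α.1 = MulAut.conj x := by
  let c : MulAut G →* MulAut ↥(twistedD4 K q) := (MulAut.congr e).toMonoidHom
  have hc : ∀ (α : MulAut G) (x : G), c α (e x) = e (α x) := by
    intro α x
    show e (α (e.symm (e x))) = e (α x)
    rw [e.symm_apply_apply]
  obtain ⟨f, hf⟩ := exists_hom_model hq hK p (hS.map c)
  refine ⟨f.comp (c.subgroupMap S), fun α => (hf _).trans ⟨?_, ?_⟩⟩
  · rintro ⟨x, hx⟩
    have hx' : c α.1 = MulAut.conj x := hx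
    refine ⟨e.symm x, ?_⟩
    ext y
    apply e.injective
    rw [← hc, hx', MulAut.conj_apply, MulAut.conj_apply, map_mul, map_mul, map_inv, e.apply_symm_apply]
  · rintro ⟨x, hx⟩
    refine ⟨e x, ?_⟩
    show c α.1 = MulAut.conj (e x)
    ext y
    obtain ⟨z, rfl⟩ := e.surjective y
    rw [hc, hx, MulAut.conj_apply, MulAut.conj_apply, map_mul, map_mul, map_inv]

end Cfsg.Agent.KFacts.TwDFour.Out

end
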